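import Cfsg.Agent.Lib.Transvections.System

/-!
# Two axes at a centre: everything
-/

set_option linter.all false
set_option autoImplicit false

namespace Cfsg.Agent.Transvections.Sys

open Cfsg.Agent.Transvections

variable {k : Type*} [Field k] {V W : Type*} [AddCommGroup V] [Module k V] [AddCommGroup W] [Module k W]
  {P : V →ₗ[k] W →ₗ[k] k} {X : Submodule k V} {Y : Submodule k W} {T : Set (V × W)}
  (S : Sys P X Y T) {v w x z : V} {φ ψ χ : W}

/-- The axes at `v`. -/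
def axes (S : Sys P X Y T) (v : V) : Submodule k W where
  carrier := {φ | φ = 0 ∨ (v, φ) ∈ T}
  zero_mem' := Or.inl rfl
  add_mem' := by
    rintro a b (rfl | ha) (rfl | hb)
    · exact Or.inl (add_zero _)
    · exact Or.inr (by rwa [zero_add])
    · exact Or.inr (by rwa [add_zero])
    · exact Or.inr (S.addR ha hb)
  smul_mem' := by
    rintro c a (rfl | ha)
    · exact Or.inl (smul_zero _)
    · exact Or.inr (S.smulR c ha)

include S

theorem pair_axes (h : φ ∈ S.axes v) : P v φ = 0 := by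
  rcases h with rfl | h
  · simp
  · exact S.pair h

theorem exists_both (hv : φ ∈ S.axes v) (hw : ψ ∈ S.axes v) (h1 : P w φ ≠ 0) (h2 : P z ψ ≠ 0) :
    ∃ χ ∈ S.axes v, P w χ ≠ 0 ∧ P z χ ≠ 0 := by
  by_cases h3 : P z φ ≠ 0
  · exact ⟨φ, hv, h1, h3⟩
  by_cases h4 : P w ψ ≠ 0
  · exact ⟨ψ, hw, h4, h2⟩
  push Not at h3 h4
  exact ⟨φ + ψ, add_mem hv hw, by simp [h4, h1], by simp [h3, h2]⟩

/-- Two adjacent axes share a centre. -/
theorem share (hT : ¬ S.Thin) {y : V} {η : W} (h1 : Elt T (w, ψ)) (h2 : Elt T (y, η)) (h : Adj P (w, ψ) (y, η)) :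
    ∃ u, u ≠ 0 ∧ (u, ψ) ∈ T ∧ (u, η) ∈ T := by
  by_cases hψ : P y ψ = 0
  · exact ⟨y, h2.2.1, S.rule h2.1 h1.1 (h.resolve_left (not_not.2 hψ)) hψ, h2.1⟩
  by_cases hη : P w η = 0
  · exact ⟨w, h1.2.1, h1.1, S.rule h1.1 h2.1 hψ hη⟩
  have hcb : S.flip.Big ψ := S.flip.all_big (fun h => hT (S.flip.thin_flip h)) ((elt_swap_iff (e := (ψ, w))).2 h1)
  obtain ⟨u, hu, huη⟩ := S.flip.exists_axis_zero hcb η
  exact ⟨u, hu.2.2, hu.1, S.rule hu.1 h2.1 hψ huη⟩

variable [FiniteDimensional k W]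

/-- Some centre carries all the axes through it. -/
theorem exists_full (hT : ¬ S.Thin) :
    ∃ v φ, Elt T (v, φ) ∧ ∀ ω ∈ Y, P v ω = 0 → (v, ω) ∈ T := by
  classical
  obtain ⟨v₁, φ₁, ψ₁, hv₁, -⟩ := S.exists_big hT
  obtain ⟨v, ⟨φ, hφ⟩, hmax⟩ := (InvImage.wf (fun v : V => Module.finrank k W - Module.finrank k (S.axes v))
    wellFounded_lt).has_min {v | ∃ φ, Elt T (v, φ)} ⟨v₁, φ₁, hv₁⟩
  refine ⟨v, φ, hφ, ?_⟩
  have hbig := S.all_big hT hφ
  have key : ∀ u ω, Elt T (u, ω) → P v ω ≠ 0 → ∃ α ∈ S.axes v, P u α ≠ 0 := by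
    intro u ω hu hne
    by_contra hall
    push Not at hall
    have hle : S.axes v ⊔ Submodule.span k {ω} ≤ S.axes u := by
      refine sup_le (fun α hα => ?_) ((Submodule.span_singleton_le_iff_mem _ _).2 (Or.inr hu.1))
      rcases eq_or_ne α 0 with rfl | hα0
      · exact zero_mem _
      · exact Or.inr (S.rule hu.1 (hα.resolve_left hα0) hne (hall α hα))
    refine hmax u ⟨ω, hu⟩ ?_
    show Module.finrank k W - Module.finrank k (S.axes u) < Module.finrank k W - Module.finrank k (S.axes v)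
    have h1 : Module.finrank k (S.axes v) < Module.finrank k (S.axes u) :=
      Submodule.finrank_lt_finrank_of_lt (lt_of_lt_of_le (lt_of_le_of_ne le_sup_left fun e => hne (S.pair_axes
        (e.ge (Submodule.mem_sup_right (Submodule.mem_span_singleton_self ω))))) hle)
    have h2 := Submodule.finrank_le (S.axes u)
    omega
  obtain ⟨w, ψ, hw, hb⟩ := S.exists_partner hφ
  set L := S.axes v ⊔ Submodule.span k {ψ} with hL
  have hψL : ψ ∈ L := Submodule.mem_sup_right (Submodule.mem_span_singleton_self ψ)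
  -- one step
  have step1 : ∀ w' ψ' y η, Elt T (w', ψ') → P v ψ' ≠ 0 → ψ' ∈ L → Elt T (y, η) → P v η ≠ 0 →
      Adj P (w', ψ') (y, η) → η ∈ L := by
    intro w' ψ' y η hw' hb' hL' hy hD hadj
    obtain ⟨u, hu0, hu1, hu2⟩ := S.share hT hw' hy hadj
    obtain ⟨α, hα, hne⟩ := key u ψ' ⟨hu1, hu0, hw'.2.2⟩ hb'
    set c := P v η / P v ψ'
    have hmem : (u, η + (-c) • ψ') ∈ T := S.addR hu2 (S.smulR _ hu1)
    have h0 : P v (η + (-c) • ψ') = 0 := by simp [c, div_mul_cancel₀ _ hb']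
    have hα' : (v, α) ∈ T := hα.resolve_left fun e => hne (by simp [e])
    have h3 : η + (-c) • ψ' ∈ L := Submodule.mem_sup_left (Or.inr (S.rule hα' hmem hne h0))
    have h4 := add_mem h3 (L.smul_mem c hL')
    rwa [show η + (-c) • ψ' + c • ψ' = η by module] at h4
  have step2 : ∀ y η, Elt T (y, η) → P v η ≠ 0 → η ∈ L := by
    intro y η hy hD
    by_cases hyψ : P y ψ ≠ 0
    · exact step1 w ψ y η hw hb hψL hy hD (Or.inl hyψ)
    push Not at hyψ
    obtain ⟨α, hα, hwα⟩ := key w ψ hw hb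
    obtain ⟨β, hβ, hyβ⟩ := key y η hy hD
    obtain ⟨γ, hγ, hwγ, hyγ⟩ := S.exists_both hα hβ hwα hyβ
    have hγT : (v, γ) ∈ T := hγ.resolve_left fun e => hwγ (by simp [e])
    have hne : P v (ψ - P v ψ • γ) ≠ 0 := by simpa [S.pair hγT] using hb
    have hel : Elt T (w + P w γ • v, ψ - P v ψ • γ) :=
      ⟨S.conj hγT hw.1, fun e => hwγ (by simpa [S.pair hγT] using congrArg (fun z => P z γ) e),
        fun e => hne (by rw [show ψ - P v ψ • γ = 0 from e, map_zero])⟩
    exact step1 _ _ y η hel hne (sub_mem hψL (L.smul_mem _ (Submodule.mem_sup_left hγ))) hy hD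
      (Or.inl (by simp [hyψ, hb, hyγ]))
  have step3 : ∀ y η, Elt T (y, η) → η ∈ L ∨ ∀ l ∈ L, P y l = 0 := by
    intro y η hy
    by_cases hD : P v η ≠ 0
    · exact Or.inl (step2 y η hy hD)
    push Not at hD
    by_cases hex : ∃ α ∈ S.axes v, P y α ≠ 0
    · obtain ⟨α, hα, hne⟩ := hex
      exact Or.inl (Submodule.mem_sup_left (Or.inr
        (S.rule (hα.resolve_left fun e => hne (by simp [e])) hy.1 hne hD)))
    push Not at hex
    by_cases hyψ : P y ψ = 0
    · refine Or.inr fun l hl => ?_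
      obtain ⟨a, ha, b, hb, rfl⟩ := Submodule.mem_sup.1 hl
      obtain ⟨c, rfl⟩ := Submodule.mem_span_singleton.1 hb
      simp [hex a ha, hyψ]
    refine Or.inl ?_
    obtain ⟨α, hα, hwα⟩ := key w ψ hw hb
    have hα' : (v, α) ∈ T := hα.resolve_left fun e => hwα (by simp [e])
    have hne : P (y + P y ψ • w) α ≠ 0 := by simp [hex α hα, hyψ, hwα]
    have hc := S.conj hw.1 hy.1
    by_cases hwη : P w η = 0
    · rw [hwη, zero_smul, sub_zero] at hc
      exact Submodule.mem_sup_left (Or.inr (S.rule hα' hc hne hD))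
    · have hv : P v (η - P w η • ψ) ≠ 0 := by simp [hD, hwη, hb]
      have hel : Elt T (y + P y ψ • w, η - P w η • ψ) :=
        ⟨hc, fun e => hne (by rw [show y + P y ψ • w = 0 from e]; simp),
          fun e => hv (by rw [show η - P w η • ψ = 0 from e, map_zero])⟩
      have h5 := add_mem (step2 _ _ hel hv) (L.smul_mem (P w η) hψL)
      rwa [sub_add_cancel] at h5
  -- all axes
  have hall : ∀ y η, Elt T (y, η) → η ∈ L := by
    intro y η hy
    suffices ∀ e, Relation.ReflTransGen (fun a b => Elt T b ∧ Adj P a b) (v, φ) e → Elt T e ∧ e.2 ∈ L from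
      (this _ (S.conn hφ hy)).2
    intro e he
    induction he with
    | refl => exact ⟨hφ, Submodule.mem_sup_left (Or.inr hφ.1)⟩
    | @tail b c _ hbc ih =>
      obtain ⟨z, χ⟩ := b
      obtain ⟨y, η⟩ := c
      obtain ⟨hel, hadj⟩ := hbc
      refine ⟨hel, (step3 y η hel).resolve_right fun hperp => ?_⟩
      have h1 : (y, χ) ∈ T := S.rule hel.1 ih.1.1 (hadj.resolve_left (not_not.2 (hperp χ ih.2))) (hperp χ ih.2)
      let A : Submodule k V :=
        { carrier := {x | x ∈ X ∧ ∀ l ∈ L, P x l = 0}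
          zero_mem' := ⟨zero_mem _, fun l _ => by simp⟩
          add_mem' := fun {p q} hp hq => ⟨add_mem hp.1 hq.1, fun l hl => by simp [hp.2 l hl, hq.2 l hl]⟩
          smul_mem' := fun c p hp => ⟨X.smul_mem c hp.1, fun l hl => by simp [hp.2 l hl]⟩ }
      have hinvA : ∀ {p : V} {α : W}, (p, α) ∈ T → ∀ a ∈ A, a + P a α • p ∈ A := fun {p α} hp a ha => by
        rcases eq_or_ne p 0 with rfl | hp0
        · simpa using ha
        rcases eq_or_ne α 0 with rfl | hα0
        · simpa using ha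
        rcases step3 p α ⟨hp, hp0, hα0⟩ with h | h
        · rw [ha.2 α h, zero_smul, add_zero]; exact ha
        · exact add_mem ha (A.smul_mem _ ⟨(S.mem hp).1, h⟩)
      have hinvB : ∀ {p : V} {α : W}, (p, α) ∈ T → ∀ b ∈ L ⊓ Y, b - P p b • α ∈ L ⊓ Y := fun {p α} hp b hb => by
        rcases eq_or_ne p 0 with rfl | hp0
        · simpa using hb
        rcases eq_or_ne α 0 with rfl | hα0
        · simpa using hb
        refine ⟨?_, sub_mem hb.2 (Y.smul_mem _ (S.mem hp).2)⟩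
        rcases step3 p α ⟨hp, hp0, hα0⟩ with h | h
        · exact sub_mem hb.1 (L.smul_mem _ h)
        · rw [h b hb.1, zero_smul, sub_zero]; exact hb.1
      rcases S.red A (L ⊓ Y) (fun p hp => hp.1) inf_le_right (fun a ha b hb => ha.2 b hb.1) hinvA hinvB h1
          ⟨(S.mem h1).1, hperp⟩ ⟨ih.2, (S.mem h1).2⟩ with e | e
      · exact hel.2.1 e
      · exact ih.1.2.2 e
  intro ω hω h0
  have : ω ∈ L := (S.spanR.trans (Submodule.span_le.2 fun η ⟨y, hy⟩ => hall y η hy)) hω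
  obtain ⟨a, ha, b, hb', rfl⟩ := Submodule.mem_sup.1 this
  obtain ⟨c, rfl⟩ := Submodule.mem_span_singleton.1 hb'
  have hc : c = 0 := by
    simpa [S.pair_axes ha, hb] using h0
  rcases ha with rfl | ha
  · simpa [hc] using S.zeroR (S.mem hφ.1).1
  · simpa [hc] using ha

/-- Every orthogonal pair is present. -/
theorem full (hT : ¬ S.Thin) : ∀ x ∈ X, ∀ ω ∈ Y, P x ω = 0 → (x, ω) ∈ T := by
  obtain ⟨v₀, φ₀, h₀, hfull⟩ := S.exists_full hT
  let Good : V → Prop := fun v => (∃ φ, Elt T (v, φ)) ∧ ∀ ω ∈ Y, P v ω = 0 → (v, ω) ∈ T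
  have hgood : ∀ {z χ}, Elt T (z, χ) → Good z := by
    intro z χ hz
    refine S.propagate Good (fun v h => h.1) ?_ ?_ ⟨⟨φ₀, h₀⟩, hfull⟩ hz
    · intro v φ w hv ⟨⟨α, hα⟩, hw⟩
      have hp := S.pair hv
      have hne : w + P w φ • v ≠ 0 := fun e => by
        have h : P w φ = 0 := by simpa [hp] using congrArg (fun z => P z φ) e
        exact hα.2.1 (by simpa [h] using e)
      refine ⟨⟨α - P v α • φ, S.conj hv hα.1, hne, fun e => hα.2.2 ?_⟩, fun ω hω h0 => ?_⟩
      · have h : P v α = 0 := by simpa [hp] using congrArg (P v) (show α - P v α • φ = 0 from e)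
        simpa [h] using e
      · simp only [map_add, map_smul, LinearMap.add_apply, LinearMap.smul_apply, smul_eq_mul] at h0
        have := S.conj hv (hw (ω + P v ω • φ) (add_mem hω (Y.smul_mem _ (S.mem hv).2))
          (by simp; linear_combination h0))
        simpa [hp] using this
    · intro v z χ hv hz hne
      refine ⟨⟨χ, hz⟩, fun ω hω h0 => ?_⟩
      set c := P v ω / P v χ
      have h1 : (v, ω - c • χ) ∈ T := hv.2 _ (sub_mem hω (Y.smul_mem _ (S.mem hz.1).2))
        (by simp [c, div_mul_cancel₀ _ hne])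
      have h2 : (z, ω - c • χ) ∈ T := S.rule hz.1 h1 hne (by simp [h0, S.pair hz.1])
      simpa using S.addR h2 (S.smulR c hz.1)
  intro x hx
  have hpt : x = 0 ∨ Good x := by
    refine Submodule.span_induction (p := fun x _ => x = 0 ∨ Good x) ?_ (Or.inl rfl) ?_ ?_ (S.spanL hx)
    · rintro a ⟨α, ha⟩; exact Or.inr (hgood ha)
    · rintro a b _ _ (rfl | ha) (rfl | hb)
      · exact Or.inl (add_zero _)
      · exact Or.inr (by rwa [zero_add])
      · exact Or.inr (by rwa [add_zero])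
      · by_cases h : a + b = 0
        · exact Or.inl h
        obtain ⟨⟨α, hα⟩, -⟩ := ha
        obtain ⟨⟨β, hβ⟩, hb'⟩ := hb
        obtain ⟨ω, hω, hω0⟩ := S.exists_axis_zero (S.all_big hT hα) b
        exact Or.inr (hgood (χ := ω) ⟨S.addL hω.1 (hb' ω (S.mem hω.1).2 hω0), h, hω.2.2⟩)
    · rintro c a _ (rfl | ⟨⟨α, hα⟩, ha⟩)
      · exact Or.inl (smul_zero _)
      rcases eq_or_ne c 0 with rfl | hc
      · exact Or.inl (zero_smul _ _)
      · exact Or.inr (hgood (χ := α) ⟨S.smulL c hα.1, smul_ne_zero hc hα.2.1, hα.2.2⟩)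
  intro ω hω h0
  rcases hpt with rfl | h
  · exact S.zeroL hω
  · exact h.2 ω hω h0

theorem radical_fat (hT : ¬ S.Thin) {r : V} (hr : r ∈ X) (h0 : ∀ ω ∈ Y, P r ω = 0) : r = 0 := by
  by_contra hne
  obtain ⟨v, φ, ψ, hv, -⟩ := S.exists_big hT
  obtain ⟨ω, hω, hne'⟩ := S.not_rad (show Elt T (r, φ) from
    ⟨S.full hT r hr φ (S.mem hv.1).2 (h0 φ (S.mem hv.1).2), hne, hv.2.2⟩)
  exact hne' (h0 ω hω)

end Cfsg.Agent.Transvections.Sys
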