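import Mathlib

/-!
# Transvections generate the special linear and symplectic groups
-/

set_option linter.all false
set_option autoImplicit false

namespace Cfsg.Agent.Transvections

variable {k : Type*} [Field k] {V : Type*} [AddCommGroup V] [Module k V] [FiniteDimensional k V]

/-- The fixed vectors of `g`. -/
def fix (g : V ≃ₗ[k] V) : Submodule k V := LinearMap.ker ((g : V →ₗ[k] V) - LinearMap.id)

theorem mem_fix {g : V ≃ₗ[k] V} {x : V} : x ∈ fix g ↔ g x = x := by
  simp [fix, sub_eq_zero]

theorem finrank_fix_lt {g g' : V ≃ₗ[k] V} {u : V} (h : fix g ≤ fix g') (hu : g' u = u) (hne : g u ≠ u) :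
    Module.finrank k (fix g) < Module.finrank k (fix g') :=
  Submodule.finrank_lt_finrank_of_lt (lt_of_le_of_ne h fun e => hne (mem_fix.1 (e.ge (mem_fix.2 hu))))

theorem exists_functional (S : Submodule k V) {z : V} (hz : z ∉ S) :
    ∃ φ : Module.Dual k V, φ z = 1 ∧ ∀ s ∈ S, φ s = 0 := by
  obtain ⟨φ, hφ, hS⟩ := Submodule.exists_le_ker_of_notMem hz
  exact ⟨(φ z)⁻¹ • φ, by simp [hφ], fun s hs => by simp [LinearMap.mem_ker.1 (hS hs)]⟩

/-- Transvections generate the special linear group. -/
theorem sl_gen (L : Subgroup (V ≃ₗ[k] V))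
    (h : ∀ (f : Module.Dual k V) (v : V) (hf : f v = 0), LinearEquiv.transvection hf ∈ L) :
    ∀ g : V ≃ₗ[k] V, LinearMap.det (g : V →ₗ[k] V) = 1 → g ∈ L := by
  suffices ∀ n (g : V ≃ₗ[k] V), Module.finrank k V - Module.finrank k (fix g) = n →
      LinearMap.det (g : V →ₗ[k] V) = 1 → g ∈ L from fun g => this _ g rfl
  intro n
  induction n using Nat.strong_induction_on with
  | _ n ih =>
    intro g hn hdet
    by_cases hfix : ∀ x, g x = x
    · rw [show g = 1 from LinearEquiv.ext hfix]; exact one_mem _
    push Not at hfix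
    obtain ⟨u, hu⟩ := hfix
    set F := fix g
    have huF : u ∉ F := fun hc => hu (mem_fix.1 hc)
    have hguF : g u ∉ F := fun hc => hu (g.injective (mem_fix.1 hc))
    -- a transvection moving one vector to another
    have move : ∀ z y : V, z ∉ F ⊔ Submodule.span k {y - z} →
        ∃ t ∈ L, t z = y ∧ (∀ x ∈ F, t x = x) ∧ LinearMap.det (t : V →ₗ[k] V) = 1 := by
      intro z y hz
      obtain ⟨φ, hφ1, hφ0⟩ := exists_functional _ hz
      have hφyz : φ (y - z) = 0 := hφ0 _ (Submodule.mem_sup_right (Submodule.mem_span_singleton_self _))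
      refine ⟨_, h φ (y - z) hφyz, ?_, fun x hx => ?_, ?_⟩
      · rw [LinearEquiv.transvection.apply, hφ1, one_smul, add_sub_cancel]
      · rw [LinearEquiv.transvection.apply, hφ0 x (Submodule.mem_sup_left hx), zero_smul, add_zero]
      · rw [LinearEquiv.transvection.coe_toLinearMap, LinearMap.transvection.det, hφyz, add_zero]
    by_cases hall : ∀ x, x ∈ F ⊔ Submodule.span k {u}
    · -- `g` is a transvection
      obtain ⟨φ, hφ1, hφ0⟩ := exists_functional F huF
      have e : (g : V →ₗ[k] V) = LinearMap.transvection φ (g u - u) := LinearMap.ext fun x => by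
        obtain ⟨f, hf, y, hy, rfl⟩ := Submodule.mem_sup.1 (hall x)
        obtain ⟨c, rfl⟩ := Submodule.mem_span_singleton.1 hy
        simp [LinearMap.transvection.apply, mem_fix.1 hf, hφ0 f hf, hφ1, smul_sub]
      have h0 : φ (g u - u) = 0 := by
        rw [e, LinearMap.transvection.det] at hdet
        simpa using hdet
      have : g = LinearEquiv.transvection h0 := LinearEquiv.ext fun x => LinearMap.congr_fun e x
      rw [this]
      exact h _ _ _
    push Not at hall
    obtain ⟨w₀, hw₀⟩ := hall
    have two : ∀ z : V, z ∉ F → ∀ y : V, y ∉ F ⊔ Submodule.span k {z} → z ∉ F ⊔ Submodule.span k {y - z} := by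
      intro z hz y hy hc
      obtain ⟨f, hf, b, hb, e⟩ := Submodule.mem_sup.1 hc
      obtain ⟨c, rfl⟩ := Submodule.mem_span_singleton.1 hb
      rcases eq_or_ne c 0 with rfl | hc0
      · exact hz (by rw [← e]; simpa using hf)
      refine hy (Submodule.mem_sup.2 ⟨-(c⁻¹ • f), F.neg_mem (F.smul_mem _ hf), ((1 + c) / c) • z,
        Submodule.smul_mem _ _ (Submodule.mem_span_singleton_self z), ?_⟩)
      have e' : c • y = z + c • z - f := by
        have e2 : f + c • (y - z) = z := e
        linear_combination (norm := module) e2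
      have := congrArg (c⁻¹ • ·) e'
      simp only [smul_smul, inv_mul_cancel₀ hc0, one_smul] at this
      rw [this]
      simp only [smul_sub, smul_add, smul_smul, inv_mul_cancel₀ hc0, one_smul]
      match_scalars <;> field_simp <;> ring
    obtain ⟨t, ht, htu, htF, htdet⟩ : ∃ t ∈ L, t (g u) = u ∧ (∀ x ∈ F, t x = x) ∧
        LinearMap.det (t : V →ₗ[k] V) = 1 := by
      by_cases h1 : u ∉ F ⊔ Submodule.span k {g u}
      · exact move _ _ (two _ hguF _ h1)
      push Not at h1
      -- through a third vector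
      obtain ⟨w, hw1, hw2⟩ : ∃ w, w ∉ F ⊔ Submodule.span k {g u} ∧ u ∉ F ⊔ Submodule.span k {w} := by
        refine ⟨w₀, fun hc => ?_, fun hc => ?_⟩
        · obtain ⟨f, hf, b, hb, e⟩ := Submodule.mem_sup.1 h1
          obtain ⟨c, rfl⟩ := Submodule.mem_span_singleton.1 hb
          have hc0 : c ≠ 0 := fun e0 => huF (by rw [← e, e0]; simpa using hf)
          refine hw₀ ((sup_le le_sup_left ?_ : F ⊔ Submodule.span k {g u} ≤ F ⊔ Submodule.span k {u}) hc)
          rw [Submodule.span_singleton_le_iff_mem]
          have : g u = c⁻¹ • u - c⁻¹ • f := by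
            rw [← smul_sub, ← eq_sub_of_add_eq' e, smul_smul, inv_mul_cancel₀ hc0, one_smul]
          rw [this]
          exact sub_mem (Submodule.mem_sup_right (Submodule.smul_mem _ _ (Submodule.mem_span_singleton_self u)))
            (Submodule.mem_sup_left (F.smul_mem _ hf))
        · obtain ⟨f, hf, b, hb, e⟩ := Submodule.mem_sup.1 hc
          obtain ⟨c, rfl⟩ := Submodule.mem_span_singleton.1 hb
          rcases eq_or_ne c 0 with rfl | hc0
          · exact huF (by rw [← e]; simpa using hf)
          refine hw₀ (Submodule.mem_sup.2 ⟨-(c⁻¹ • f), F.neg_mem (F.smul_mem _ hf), c⁻¹ • u,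
            Submodule.smul_mem _ _ (Submodule.mem_span_singleton_self u), ?_⟩)
          rw [← e]; simp [smul_smul, hc0]
      have hwF : w ∉ F := fun hc => hw1 (Submodule.mem_sup_left hc)
      obtain ⟨t1, h11, h12, h13, h14⟩ := move _ _ (two _ hguF _ hw1)
      obtain ⟨t2, h21, h22, h23, h24⟩ := move _ _ (two _ hwF _ hw2)
      refine ⟨t2 * t1, mul_mem h21 h11, by rw [LinearEquiv.mul_apply, h12, h22],
        fun x hx => by rw [LinearEquiv.mul_apply, h13 x hx, h23 x hx], ?_⟩
      rw [show ((t2 * t1 : V ≃ₗ[k] V) : V →ₗ[k] V) = (t2 : V →ₗ[k] V) * (t1 : V →ₗ[k] V) from rfl, map_mul, h14, h24,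
        mul_one]
    have hle : fix g ≤ fix (t * g) := fun x hx => mem_fix.2 (by
      rw [LinearEquiv.mul_apply, mem_fix.1 hx]; exact htF x hx)
    have h2 := finrank_fix_lt hle (by rw [LinearEquiv.mul_apply]; exact htu) hu
    have h3 := Submodule.finrank_le (fix (t * g))
    change Module.finrank k F < _ at h2
    have := ih _ (by omega) (t * g) rfl (by
      rw [show ((t * g : V ≃ₗ[k] V) : V →ₗ[k] V) = (t : V →ₗ[k] V) * (g : V →ₗ[k] V) from rfl, map_mul, hdet, htdet,
        mul_one])
    simpa using mul_mem (inv_mem ht) this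

/-- Symplectic transvections generate the group of an alternating form. -/
theorem sp_gen (B : LinearMap.BilinForm k V) (hB : B.IsAlt) (hN : ∀ x, (∀ y, B y x = 0) → x = 0)
    (L : Subgroup (V ≃ₗ[k] V))
    (h : ∀ (a : V) (c : k) (hf : (c • B.flip a) a = 0), LinearEquiv.transvection hf ∈ L) :
    ∀ g : V ≃ₗ[k] V, (∀ x y, B (g x) (g y) = B x y) → g ∈ L := by
  suffices ∀ n (g : V ≃ₗ[k] V), Module.finrank k V - Module.finrank k (fix g) = n →
      (∀ x y, B (g x) (g y) = B x y) → g ∈ L from fun g => this _ g rfl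
  intro n
  induction n using Nat.strong_induction_on with
  | _ n ih =>
    intro g hn hg
    by_cases hfix : ∀ x, g x = x
    · rw [show g = 1 from LinearEquiv.ext hfix]; exact one_mem _
    push Not at hfix
    obtain ⟨u, hu⟩ := hfix
    have hsw : ∀ x y, B x y = -B y x := fun x y => (LinearMap.IsAlt.neg hB y x).symm
    -- one move
    have move : ∀ z y : V, B z y ≠ 0 → (∀ x ∈ fix g, B x y = B x z) →
        ∃ t ∈ L, t z = y ∧ (∀ x ∈ fix g, t x = x) ∧ ∀ p q, B (t p) (t q) = B p q := by
      intro z y hzy hF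
      have hf : ((B z y)⁻¹ • B.flip (y - z)) (y - z) = 0 := by
        rw [LinearMap.smul_apply, show (B.flip (y - z)) (y - z) = B (y - z) (y - z) from rfl, hB, smul_zero]
      refine ⟨_, h (y - z) (B z y)⁻¹ hf, ?_, fun x hx => ?_, fun p q => ?_⟩
      · simp [LinearMap.transvection.apply, hB z, hzy]
      · simp [LinearMap.transvection.apply, hF x hx]
      · simp only [LinearEquiv.transvection.apply, LinearMap.smul_apply, smul_eq_mul, map_add, map_smul,
          LinearMap.add_apply, LinearMap.BilinForm.flip_apply, hB (y - z)]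
        rw [hsw (y - z) q]
        ring
    obtain ⟨t, ht, htu, htF, htB⟩ : ∃ t ∈ L, t (g u) = u ∧ (∀ x ∈ fix g, t x = x) ∧
        ∀ p q, B (t p) (t q) = B p q := by
      have hgF : ∀ x ∈ fix g, B x (g u) = B x u := fun x hx => by
        conv_lhs => rw [← mem_fix.1 hx]
        exact hg x u
      by_cases h0 : B (g u) u ≠ 0
      · exact move _ _ h0 fun x hx => (hgF x hx).symm
      push Not at h0
      -- an intermediate vector
      let O : Submodule k V := B.orthogonal (fix g)
      have hN' : B.Nondegenerate := ⟨fun x hx => hN x fun y => by rw [hsw, hx, neg_zero], fun x hx => hN x hx⟩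
      have hO : ∀ z, z ∉ fix g → ∃ e ∈ O, B z e ≠ 0 := fun z hz => by
        by_contra hall
        push Not at hall
        refine hz ?_
        rw [← LinearMap.BilinForm.orthogonal_orthogonal hN' hB.isRefl (fix g)]
        intro e he
        show B e z = 0
        rw [hsw, hall e he, neg_zero]
      obtain ⟨e1, he1, h1⟩ := hO (g u) fun hc => hu (g.injective (mem_fix.1 hc))
      obtain ⟨e2, he2, h2⟩ := hO u fun hc => hu (mem_fix.1 hc)
      obtain ⟨e, he, h3, h4⟩ : ∃ e ∈ O, B (g u) e ≠ 0 ∧ B u e ≠ 0 := by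
        by_cases h3 : B u e1 ≠ 0
        · exact ⟨e1, he1, h1, h3⟩
        by_cases h4 : B (g u) e2 ≠ 0
        · exact ⟨e2, he2, h4, h2⟩
        push Not at h3 h4
        exact ⟨e1 + e2, add_mem he1 he2, by simp [h4, h1], by simp [h3, h2]⟩
      have hxe : ∀ x ∈ fix g, B x e = 0 := fun x hx => he x hx
      obtain ⟨t1, h11, h12, h13, h14⟩ := move (g u) (u + e) (by simp [h0, h3]) fun x hx => by
        simp [hxe x hx, hgF x hx]
      obtain ⟨t2, h21, h22, h23, h24⟩ := move (u + e) u (by simp [hB u, hsw e u, h4]) fun x hx => by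
        simp [hxe x hx]
      exact ⟨t2 * t1, mul_mem h21 h11, by rw [LinearEquiv.mul_apply, h12, h22],
        fun x hx => by rw [LinearEquiv.mul_apply, h13 x hx, h23 x hx],
        fun p q => by rw [LinearEquiv.mul_apply, LinearEquiv.mul_apply, h24, h14]⟩
    have hle : fix g ≤ fix (t * g) := fun x hx => mem_fix.2 (by
      rw [LinearEquiv.mul_apply, mem_fix.1 hx]; exact htF x hx)
    have h2 := finrank_fix_lt hle (by rw [LinearEquiv.mul_apply]; exact htu) hu
    have h3 := Submodule.finrank_le (fix (t * g))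
    have := ih _ (by omega) (t * g) rfl fun x y => by rw [LinearEquiv.mul_apply, LinearEquiv.mul_apply, htB, hg]
    simpa using mul_mem (inv_mem ht) this

end Cfsg.Agent.Transvections
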