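import Cfsg.Agent.Lib.Transvections.Thin
import Cfsg.Agent.Lib.Transvections.Fat
import Cfsg.Agent.Lib.Transvections.Generation
import Cfsg.Prelude.Def_Solvable

/-!
# Groups generated by transvections over a prime field of odd order
-/

set_option linter.all false
set_option autoImplicit false

namespace Cfsg.Agent.Transvections

variable {p : ℕ} [Fact p.Prime] {V : Type*} [AddCommGroup V] [Module (ZMod p) V]

/-- The evaluation pairing. -/
abbrev evalP (p : ℕ) [Fact p.Prime] (V : Type*) [AddCommGroup V] [Module (ZMod p) V] :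
    V →ₗ[ZMod p] Module.Dual (ZMod p) V →ₗ[ZMod p] ZMod p :=
  Module.Dual.eval (ZMod p) V

theorem zmod_two_ne (hp : Odd p) : (2 : ZMod p) ≠ 0 := by
  intro h
  have hd : p ∣ 2 := (ZMod.natCast_eq_zero_iff 2 p).1 (by exact_mod_cast h)
  have h2 : p = 2 := (Nat.prime_dvd_prime_iff_eq Fact.out Nat.prime_two).1 hd
  rw [h2] at hp
  exact absurd hp (by decide)

theorem one_add_pow (N : V →ₗ[ZMod p] V) (h : N ^ 3 = 0) :
    ∀ n : ℕ, (1 + N) ^ n = 1 + n • N + n.choose 2 • N ^ 2 := by
  intro n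
  induction n with
  | zero => simp
  | succ n ih =>
    have e : (n + 1).choose 2 = n + n.choose 2 := by
      rw [Nat.choose_succ_succ', Nat.choose_one_right]
    rw [pow_succ, ih, e]
    simp only [add_mul, mul_add, one_mul, mul_one, smul_mul_assoc, pow_two] at h ⊢
    rw [show N * N * N = 0 by rw [pow_succ, pow_two] at h; exact h]
    simp [add_smul]
    abel

theorem pow_eq_one (hp : Odd p) (h : V ≃ₗ[ZMod p] V) (h3 : ((h : V →ₗ[ZMod p] V) - 1) ^ 3 = 0) : h ^ p = 1 := by
  have hpr : p.Prime := Fact.out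
  have hp2 : 2 < p := by
    rcases lt_or_eq_of_le hpr.two_le with h | h
    · exact h
    · rw [← h] at hp; exact absurd hp (by decide)
  have e := one_add_pow _ h3 p
  rw [add_sub_cancel] at e
  have z : ∀ n : ℕ, p ∣ n → ∀ M : V →ₗ[ZMod p] V, n • M = 0 := fun n hn M => by
    rw [← Nat.cast_smul_eq_nsmul (ZMod p), (ZMod.natCast_eq_zero_iff n p).2 hn, zero_smul]
  rw [z p dvd_rfl, z _ (hpr.dvd_choose_self (by norm_num) hp2), add_zero, add_zero] at e
  refine LinearEquiv.ext fun x => ?_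
  have key : ∀ n : ℕ, ((h ^ n : V ≃ₗ[ZMod p] V) : V →ₗ[ZMod p] V) = (h : V →ₗ[ZMod p] V) ^ n := fun n => by
    induction n with
    | zero => rfl
    | succ n ih => rw [pow_succ, pow_succ, ← ih]; rfl
  show ((h ^ p : V ≃ₗ[ZMod p] V) : V →ₗ[ZMod p] V) x = _
  rw [key, e]
  rfl

variable [Finite V]

/-- No non-trivial element stabilizes an invariant series. -/
theorem trivial_of_stab (hp : Odd p) {H : Subgroup (V ≃ₗ[ZMod p] V)} (hOp : Cfsg.pCore p ↥H = ⊥)
    (A R : Submodule (ZMod p) V) (hRA : R ≤ A) (hA : ∀ g ∈ H, ∀ a ∈ A, g a ∈ A) (hR : ∀ g ∈ H, ∀ r ∈ R, g r = r)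
    {h : V ≃ₗ[ZMod p] V} (hh : h ∈ H) (h1 : ∀ z, h z - z ∈ A) (h2 : ∀ a ∈ A, h a - a ∈ R) : h = 1 := by
  let Q : Subgroup ↥H :=
    { carrier := {g | (∀ z, g.1 z - z ∈ A) ∧ ∀ a ∈ A, g.1 a - a ∈ R}
      one_mem' := ⟨fun z => by simp, fun a _ => by simp⟩
      mul_mem' := fun {g g'} hg hg' => by
        refine ⟨fun z => ?_, fun a ha => ?_⟩
        · have : (g * g').1 z - z = (g.1 (g'.1 z) - g'.1 z) + (g'.1 z - z) := by simp
          rw [this]; exact add_mem (hg.1 _) (hg'.1 z)
        · have : (g * g').1 a - a = (g.1 (g'.1 a) - g'.1 a) + (g'.1 a - a) := by simp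
          rw [this]; exact add_mem (hg.2 _ (hA _ g'.2 a ha)) (hg'.2 a ha)
      inv_mem' := fun {g} hg => by
        have key : ∀ z, (g⁻¹).1 z - z = -(g.1 ((g⁻¹).1 z) - (g⁻¹).1 z) := fun z => by
          rw [show g.1 ((g⁻¹).1 z) = z from g.1.apply_symm_apply z]; abel
        exact ⟨fun z => by rw [key]; exact neg_mem (hg.1 _),
          fun a ha => by rw [key]; exact neg_mem (hg.2 _ (hA _ (g⁻¹).2 a ha))⟩ }
  have hn : Q.Normal := ⟨fun g hg c => by
    have key : ∀ z, (c * g * c⁻¹).1 z - z = c.1 (g.1 ((c⁻¹).1 z) - (c⁻¹).1 z) := fun z => by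
      rw [map_sub, show c.1 ((c⁻¹).1 z) = z from c.1.apply_symm_apply z]; simp
    exact ⟨fun z => by rw [key]; exact hA _ c.2 _ (hg.1 _),
      fun a ha => by
        rw [key, hR _ c.2 _ (hg.2 _ (hA _ (c⁻¹).2 a ha))]
        exact hg.2 _ (hA _ (c⁻¹).2 a ha)⟩⟩
  have hpg : IsPGroup p Q := fun g => ⟨1, by
    rw [pow_one]
    refine Subtype.ext (Subtype.ext ?_)
    show g.1.1 ^ p = 1
    refine pow_eq_one hp _ (LinearMap.ext fun z => ?_)
    have e1 : g.1.1 z - z ∈ A := g.2.1 z
    have e2 := g.2.2 _ e1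
    have e3 : g.1.1 (g.1.1 (g.1.1 z - z) - (g.1.1 z - z)) = g.1.1 (g.1.1 z - z) - (g.1.1 z - z) := hR _ g.1.2 _ e2
    simp only [pow_succ, pow_zero, one_mul, Module.End.mul_apply, LinearMap.sub_apply, Module.End.one_apply,
      LinearEquiv.coe_coe, LinearMap.zero_apply]
    simp only [map_sub] at e3 ⊢
    linear_combination (norm := abel) e3⟩
  have hbot : Q ≤ (⊥ : Subgroup ↥H) := hOp ▸ le_sSup ⟨hn, hpg⟩
  exact congrArg Subtype.val (Subgroup.mem_bot.1 (hbot (show (⟨h, hh⟩ : H) ∈ Q from ⟨h1, h2⟩)))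

/-- A transvection of order `p`. -/
theorem exists_pair_of_order {t : V ≃ₗ[ZMod p] V} (ho : orderOf t = p)
    (hr : Module.finrank (ZMod p) ↥(LinearMap.ker ((t : V →ₗ[ZMod p] V) - LinearMap.id)) + 1 =
      Module.finrank (ZMod p) V) :
    ∃ (v : V) (φ : Module.Dual (ZMod p) V), v ≠ 0 ∧ φ ≠ 0 ∧ φ v = 0 ∧ ∀ z, t z = z + φ z • v := by
  haveI : Module.Finite (ZMod p) V := Module.Finite.of_finite
  set N : V →ₗ[ZMod p] V := (t : V →ₗ[ZMod p] V) - LinearMap.id
  have h1 : Module.finrank (ZMod p) (LinearMap.range N) = 1 := by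
    have := LinearMap.finrank_range_add_finrank_ker N
    omega
  obtain ⟨⟨v, hv⟩, hv0, hspan⟩ := finrank_eq_one_iff'.1 h1
  have hv0' : v ≠ 0 := fun e => hv0 (Subtype.ext e)
  choose c hc using hspan
  let φ : Module.Dual (ZMod p) V :=
    { toFun := fun z => c ⟨N z, z, rfl⟩
      map_add' := fun x y => smul_left_injective _ hv0' (by
        show c _ • v = (c _ + c _) • v
        rw [add_smul]
        have a := congrArg Subtype.val (hc ⟨N (x + y), _, rfl⟩)
        have b := congrArg Subtype.val (hc ⟨N x, _, rfl⟩)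
        have d := congrArg Subtype.val (hc ⟨N y, _, rfl⟩)
        simp only [Submodule.coe_smul] at a b d
        rw [a, b, d, map_add])
      map_smul' := fun r x => smul_left_injective _ hv0' (by
        show c _ • v = (r * c _) • v
        rw [mul_smul]
        have a := congrArg Subtype.val (hc ⟨N (r • x), _, rfl⟩)
        have b := congrArg Subtype.val (hc ⟨N x, _, rfl⟩)
        simp only [Submodule.coe_smul] at a b
        rw [a, b, map_smul]) }
  have hN : ∀ z, N z = φ z • v := fun z => (congrArg Subtype.val (hc ⟨N z, z, rfl⟩)).symm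
  have ht : ∀ z, t z = z + φ z • v := fun z => by
    rw [← hN]; simp [N]
  refine ⟨v, φ, hv0', fun e => ?_, ?_, ht⟩
  · have : LinearMap.range N = ⊥ := LinearMap.range_eq_bot.2 (LinearMap.ext fun z => by rw [hN, e]; simp)
    rw [this] at hv
    exact hv0' ((Submodule.mem_bot _).1 hv)
  · by_contra hne
    have hlam : ∀ n : ℕ, (t ^ n) v = (1 + φ v) ^ n • v := fun n => by
      induction n with
      | zero => simp
      | succ n ih =>
        rw [pow_succ', LinearEquiv.mul_apply, ih, map_smul, ht v, smul_add, pow_succ, mul_add, mul_one, add_smul,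
          smul_smul]
    have h0 := hlam p
    have : t ^ p = 1 := (congrArg (t ^ ·) ho.symm).trans (pow_orderOf_eq_one t)
    rw [this, LinearEquiv.coe_one, id_eq, ZMod.pow_card, add_smul, one_smul] at h0
    have h0' : φ v • v = 0 := by linear_combination (norm := abel) -h0
    exact hne ((smul_eq_zero.1 h0').resolve_right hv0')

section Main

variable (hp : Odd p) {H : Subgroup (V ≃ₗ[ZMod p] V)} (hOp : Cfsg.pCore p ↥H = ⊥)
  {ι : Type*} (gen : ι → V ≃ₗ[ZMod p] V) (vv : ι → V) (ff : ι → Module.Dual (ZMod p) V)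
  (hgen : ∀ i z, gen i z = z + ff i z • vv i) (hpair : ∀ i, ff i (vv i) = 0)
  (hzero : ∀ i, vv i = 0 ↔ ff i = 0) (hH : H = Subgroup.closure (Set.range gen))

/-- Non-commuting generators. -/
def GAdj (i j : ι) : Prop := ff i (vv j) ≠ 0 ∨ ff j (vv i) ≠ 0

/-- The classes of generators. -/
def cls (i : ι) : Set ι := {j | Relation.ReflTransGen (GAdj vv ff) i j}

/-- The centres of a class. -/
def ctr (c : Set ι) : Submodule (ZMod p) V := Submodule.span (ZMod p) (vv '' c)

/-- The axes of a class. -/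
def axs (c : Set ι) : Submodule (ZMod p) (Module.Dual (ZMod p) V) := Submodule.span (ZMod p) (ff '' c)

/-- The pairs of a class. -/
def pairs (K : Subgroup (V ≃ₗ[ZMod p] V)) (c : Set ι) : Set (V × Module.Dual (ZMod p) V) :=
  {e | e.2 e.1 = 0 ∧ e.1 ∈ ctr (p := p) vv c ∧ e.2 ∈ axs ff c ∧ ∃ g ∈ K, ∀ z, g z = z + e.2 z • e.1}

theorem gadj_symm {i j : ι} (h : GAdj vv ff i j) : GAdj vv ff j i := h.symm

theorem rel_symm {i j : ι} (h : j ∈ cls vv ff i) : i ∈ cls vv ff j := by
  induction h with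
  | refl => exact .refl
  | tail _ h ih => exact Relation.ReflTransGen.head (gadj_symm vv ff h) ih

theorem cls_eq {i j : ι} (h : j ∈ cls vv ff i) : cls vv ff j = cls vv ff i :=
  Set.ext fun l => ⟨fun hl => Relation.ReflTransGen.trans h hl, fun hl => Relation.ReflTransGen.trans (rel_symm vv ff h) hl⟩

include hH in
theorem gen_mem (i : ι) : gen i ∈ H := hH ▸ Subgroup.subset_closure ⟨i, rfl⟩

theorem cross {i : ι} {j : ι} (hj : j ∉ cls vv ff i) :
    (∀ x ∈ ctr (p := p) vv (cls vv ff i), ff j x = 0) ∧ ∀ ω ∈ axs ff (cls vv ff i), ω (vv j) = 0 := by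
  have key : ∀ l ∈ cls vv ff i, ff j (vv l) = 0 ∧ ff l (vv j) = 0 := fun l hl => by
    refine ⟨by_contra fun h => hj (hl.tail (Or.inr h)), by_contra fun h => hj (hl.tail (Or.inl h))⟩
  constructor
  · intro x hx
    exact LinearMap.mem_ker.1 ((Submodule.span_le.2 (by rintro _ ⟨l, hl, rfl⟩; exact (key l hl).1) :
      ctr (p := p) vv (cls vv ff i) ≤ LinearMap.ker (ff j)) hx)
  · intro ω hω
    exact LinearMap.mem_ker.1 ((Submodule.span_le.2 (by rintro _ ⟨l, hl, rfl⟩; exact (key l hl).2) :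
      axs ff (cls vv ff i) ≤ LinearMap.ker (evalP p V (vv j))) hω)

include hgen hH in
/-- An invariant of the generators is an invariant of the group. -/
theorem invariant (A : Submodule (ZMod p) V) (hA : ∀ i, ∀ a ∈ A, ff i a • vv i ∈ A) :
    ∀ g ∈ H, ∀ a ∈ A, g a ∈ A := by
  haveI : Module.Finite (ZMod p) V := Module.Finite.of_finite
  intro g hg
  rw [hH] at hg
  induction hg using Subgroup.closure_induction with
  | mem g hg => obtain ⟨i, rfl⟩ := hg; intro a ha; rw [hgen]; exact add_mem ha (hA i a ha)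
  | one => intro a ha; simpa using ha
  | mul g h _ _ ihg ihh => intro a ha; rw [LinearEquiv.mul_apply]; exact ihg _ (ihh a ha)
  | inv g _ ih =>
    intro a ha
    have e : A.map (g : V →ₗ[ZMod p] V) = A :=
      Submodule.eq_of_le_of_finrank_eq (by rintro _ ⟨x, hx, rfl⟩; exact ih x hx) (LinearEquiv.finrank_map_eq g A)
    obtain ⟨x, hx, rfl⟩ := e.ge ha
    rwa [show (g⁻¹ : V ≃ₗ[ZMod p] V) ((g : V →ₗ[ZMod p] V) x) = x from g.symm_apply_apply x]

include hgen hH in
theorem fixed (r : V) (hr : ∀ i, ff i r = 0) : ∀ g ∈ H, g r = r := by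
  intro g hg
  rw [hH] at hg
  induction hg using Subgroup.closure_induction with
  | mem g hg => obtain ⟨i, rfl⟩ := hg; rw [hgen, hr, zero_smul, add_zero]
  | one => rfl
  | mul g h _ _ ihg ihh => rw [LinearEquiv.mul_apply, ihh, ihg]
  | inv g _ ih => conv_lhs => rw [← ih]
                  exact g.symm_apply_apply r

include hgen hH hpair hzero hp hOp in
theorem sys (i : ι) :
    Sys (evalP p V) (ctr (p := p) vv (cls vv ff i)) (axs ff (cls vv ff i)) (pairs vv ff H (cls vv ff i)) := by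
  classical
  set c := cls vv ff i
  set X := ctr (p := p) vv c
  set Y := axs ff c
  haveI : Module.Finite (ZMod p) V := Module.Finite.of_finite
  have hin : ∀ j ∈ c, (vv j, ff j) ∈ pairs vv ff H c := fun j hj =>
    ⟨hpair j, Submodule.subset_span ⟨j, hj, rfl⟩, Submodule.subset_span ⟨j, hj, rfl⟩, gen j, gen_mem gen hH j, hgen j⟩
  have hXinv : ∀ j, ∀ a ∈ X, ff j a • vv j ∈ X := fun j a ha => by
    by_cases hj : j ∈ c
    · exact X.smul_mem _ (Submodule.subset_span ⟨j, hj, rfl⟩)
    · rw [(cross vv ff hj).1 a ha, zero_smul]; exact zero_mem _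
  let R : Submodule (ZMod p) V := X ⊓ Y.dualCoannihilator
  have hRfix : ∀ g ∈ H, ∀ r ∈ R, g r = r := fun g hg r hr => fixed gen vv ff hgen hH r (fun j => by
    by_cases hj : j ∈ c
    · exact (Submodule.mem_dualCoannihilator _).1 hr.2 _ (Submodule.subset_span ⟨j, hj, rfl⟩)
    · exact (cross vv ff hj).1 r hr.1) g hg
  have hadd : ∀ {v v' : V} {φ : Module.Dual (ZMod p) V}, (v, φ) ∈ pairs vv ff H c → (v', φ) ∈ pairs vv ff H c →
      (v + v', φ) ∈ pairs vv ff H c := by
    rintro v v' φ ⟨h0, hv, hφ, g, hg, e⟩ ⟨h0', hv', -, g', hg', e'⟩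
    simp only at h0 h0' e e'
    exact ⟨by simp [h0, h0'], add_mem hv hv', hφ, g * g', mul_mem hg hg', fun z => by
      simp only [LinearEquiv.mul_apply, e', map_add, map_smul, e, h0, h0', smul_eq_mul, mul_zero, zero_smul, add_zero]
      module⟩
  have hzeroR : ∀ {v : V}, v ∈ X → (v, (0 : Module.Dual (ZMod p) V)) ∈ pairs vv ff H c := fun {v} hv =>
    ⟨rfl, hv, zero_mem _, 1, one_mem _, fun z => by simp⟩
  have hzeroL : ∀ {φ : Module.Dual (ZMod p) V}, φ ∈ Y → ((0 : V), φ) ∈ pairs vv ff H c := fun {φ} hφ =>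
    ⟨map_zero φ, zero_mem _, hφ, 1, one_mem _, fun z => by simp⟩
  have hsmul : ∀ (t : ZMod p) {v : V} {φ : Module.Dual (ZMod p) V}, (v, φ) ∈ pairs vv ff H c →
      (t • v, φ) ∈ pairs vv ff H c := by
    intro t v φ h
    have key : ∀ n : ℕ, ((n : ZMod p) • v, φ) ∈ pairs vv ff H c := fun n => by
      induction n with
      | zero => simpa using hzeroL h.2.2.1
      | succ n ih => rw [Nat.cast_succ, add_smul, one_smul]; exact hadd ih h
    simpa using key t.val
  have hAinvH : ∀ A : Submodule (ZMod p) V, A ≤ X →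
      (∀ {v φ}, (v, φ) ∈ pairs vv ff H c → ∀ a ∈ A, a + φ a • v ∈ A) → ∀ g ∈ H, ∀ a ∈ A, g a ∈ A :=
    fun A hA hinv => invariant gen vv ff hgen hH A fun j a ha => by
      by_cases hj : j ∈ c
      · simpa using sub_mem (hinv (hin j hj) a ha) ha
      · rw [(cross vv ff hj).1 a (hA ha), zero_smul]; exact zero_mem _
  have hnr : ∀ {v : V} {φ : Module.Dual (ZMod p) V}, Elt (pairs vv ff H c) (v, φ) → ∃ ω ∈ Y, ω v ≠ 0 := by
    rintro v φ ⟨⟨h0, hv, hφ, g, hg, e⟩, hv0, hφ0⟩
    by_contra hall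
    push Not at hall
    have hvR : v ∈ R := ⟨hv, (Submodule.mem_dualCoannihilator _).2 hall⟩
    have := trivial_of_stab hp hOp R R le_rfl (fun g hg r hr => by rw [hRfix g hg r hr]; exact hr) hRfix hg
      (fun z => by rw [e]; simpa using R.smul_mem _ hvR)
      (fun a ha => by rw [hRfix g hg a ha, sub_self]; exact zero_mem _)
    refine hφ0 (LinearMap.ext fun z => ?_)
    have e' := e z
    rw [this] at e'
    have : φ z • v = 0 := by simpa using e'
    exact (smul_eq_zero.1 this).resolve_right hv0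
  exact
  { pair := fun h => h.1
    mem := fun h => ⟨h.2.1, h.2.2.1⟩
    zeroR := hzeroR
    zeroL := hzeroL
    smulL := hsmul
    smulR := fun t {v φ} h => by
      obtain ⟨-, -, -, g, hg, e⟩ := hsmul t h
      exact ⟨by simp [show φ v = 0 from h.1], h.2.1, Y.smul_mem _ h.2.2.1, g, hg, fun z => by
        rw [e]; simp [smul_smul, mul_comm]⟩
    addL := hadd
    addR := by
      rintro v φ φ' ⟨h0, hv, hφ, g, hg, e⟩ ⟨h0', -, hφ', g', hg', e'⟩
      simp only at h0 h0' e e'
      exact ⟨by simp [h0, h0'], hv, add_mem hφ hφ', g * g', mul_mem hg hg', fun z => by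
        simp only [LinearEquiv.mul_apply, e', e, map_add, map_smul, h0, h0', smul_eq_mul, mul_zero, add_zero,
          LinearMap.add_apply]
        module⟩
    conj := by
      rintro v φ w ψ ⟨h0, hv, hφ, g, hg, e⟩ ⟨h0', hw, hψ, g', hg', e'⟩
      simp only at h0 h0' e e'
      refine ⟨?_, add_mem hw (X.smul_mem _ hv), sub_mem hψ (Y.smul_mem _ hφ), g * g' * g⁻¹,
        mul_mem (mul_mem hg hg') (inv_mem hg), fun z => ?_⟩
      · simp [h0, h0']
        ring
      · have hgi : (g⁻¹ : V ≃ₗ[ZMod p] V) z = z - φ z • v := by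
          show g.symm z = _
          rw [LinearEquiv.symm_apply_eq, e]
          simp [h0]
        simp only [LinearEquiv.mul_apply, hgi, e', e, map_add, map_sub, map_smul, h0, h0', smul_eq_mul, mul_zero,
          Module.Dual.eval_apply, LinearMap.sub_apply, LinearMap.smul_apply]
        module
    spanL := by
      refine Submodule.span_le.2 ?_
      rintro _ ⟨j, hj, rfl⟩
      by_cases h0 : vv j = 0
      · rw [h0]; exact zero_mem _
      · exact Submodule.subset_span ⟨ff j, hin j hj, h0, fun e => h0 ((hzero j).2 e)⟩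
    spanR := by
      refine Submodule.span_le.2 ?_
      rintro _ ⟨j, hj, rfl⟩
      by_cases h0 : vv j = 0
      · rw [(hzero j).1 h0]; exact zero_mem _
      · exact Submodule.subset_span ⟨vv j, hin j hj, h0, fun e => h0 ((hzero j).2 e)⟩
    red := by
      intro A B hA hB h0 hinvA hinvB v φ h hv hφ
      obtain ⟨g, hg, e⟩ := h.2.2.2
      simp only at e
      have := trivial_of_stab hp hOp A ⊥ bot_le (hAinvH A hA hinvA)
        (fun g _ r hr => by rw [(Submodule.mem_bot _).1 hr, map_zero]) hg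
        (fun z => by rw [e]; simpa using A.smul_mem _ hv)
        (fun a ha => by rw [e, show φ a = 0 from h0 a ha φ hφ]; simp)
      by_contra hne
      push Not at hne
      refine hne.2 (LinearMap.ext fun z => ?_)
      have e' := e z
      rw [this] at e'
      have : φ z • v = 0 := by simpa using e'
      exact (smul_eq_zero.1 this).resolve_right hne.1
    faith := by
      rintro v φ v' φ' ⟨h0, hv, hφ, g, hg, e⟩ ⟨h0', hv', hφ', g', hg', e'⟩ h1 h2 hx z ω
      simp only at h0 h0' e e'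
      simp only [Module.Dual.eval_apply] at h1 h2 hx ⊢
      have hd : ∀ z, (g * g'⁻¹) z - z = φ z • v - φ' z • v' := fun z => by
        have : (g'⁻¹ : V ≃ₗ[ZMod p] V) z = z - φ' z • v' := by
          show g'.symm z = _
          rw [LinearEquiv.symm_apply_eq, e']
          simp [h0']
        rw [LinearEquiv.mul_apply, this, e, map_sub, map_smul, h1, smul_zero, sub_zero]
        abel
      have := trivial_of_stab hp hOp X R inf_le_left (invariant gen vv ff hgen hH X hXinv) hRfix
        (mul_mem hg (inv_mem hg'))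
        (fun z => by rw [hd]; exact sub_mem (X.smul_mem _ hv) (X.smul_mem _ hv'))
        (fun a ha => by
          rw [hd]
          refine ⟨sub_mem (X.smul_mem _ hv) (X.smul_mem _ hv'), (Submodule.mem_dualCoannihilator _).2 fun η hη => ?_⟩
          simp [map_sub, map_smul, hx a ha η hη])
      have e2 := hd z
      rw [this] at e2
      have : φ z • v = φ' z • v' := sub_eq_zero.1 (by simpa using e2.symm)
      simpa using congrArg ω this
    conn := by
      intro e f he hf
      have link : ∀ {e}, Elt (pairs vv ff H c) e → ∃ j ∈ c, Elt (pairs vv ff H c) (vv j, ff j) ∧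
          Adj (evalP p V) e (vv j, ff j) := by
        rintro ⟨v, φ⟩ he
        obtain ⟨ω, hω, hne⟩ := hnr he
        by_contra hall
        push Not at hall
        refine hne (LinearMap.mem_ker.1 ((Submodule.span_le.2 ?_ : Y ≤ LinearMap.ker (evalP p V v)) hω))
        rintro _ ⟨j, hj, rfl⟩
        show ff j v = 0
        by_contra hj'
        exact hall j hj ⟨hin j hj, fun e0 => hj' (by rw [(hzero j).1 e0]; rfl), fun e0 => hj' (by
          simp only at e0; rw [e0]; rfl)⟩ (Or.inr hj')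
      obtain ⟨j, hj, hje, hadj⟩ := link he
      obtain ⟨l, hl, hle, hadj'⟩ := link hf
      have path : Relation.ReflTransGen (fun a b => Elt (pairs vv ff H c) b ∧ Adj (evalP p V) a b)
          (vv j, ff j) (vv l, ff l) := by
        have h : l ∈ cls vv ff j := by rw [cls_eq vv ff hj]; exact hl
        have hh : ∀ m, Relation.ReflTransGen (GAdj vv ff) j m → m ∈ c ∧
            Relation.ReflTransGen (fun a b => Elt (pairs vv ff H c) b ∧ Adj (evalP p V) a b)
              (vv j, ff j) (vv m, ff m) := by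
          intro m hm
          induction hm with
          | refl => exact ⟨hj, .refl⟩
          | @tail m m' _ hmm ih =>
            have hm' : m' ∈ c := Relation.ReflTransGen.tail ih.1 hmm
            refine ⟨hm', ih.2.tail ⟨⟨hin m' hm', fun e0 => ?_, fun e0 => ?_⟩, hmm⟩⟩
            · rcases hmm with h | h
              · exact h (by simp only at e0; rw [e0, map_zero])
              · exact h (by rw [(hzero m').1 e0]; rfl)
            · rcases hmm with h | h
              · exact h (by simp only at e0; rw [(hzero m').2 e0, map_zero])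
              · exact h (by simp only at e0; rw [e0]; rfl)
        exact (hh l h).2
      exact (Relation.ReflTransGen.head ⟨hje, hadj⟩ path).tail ⟨hf, hadj'.symm⟩
    sepL := fun v h => (Module.forall_dual_apply_eq_zero_iff (ZMod p) v).1 h
    sepR := fun ω h => LinearMap.ext h
    two := zmod_two_ne hp }

include hgen hH hpair hzero hp hOp in
theorem nondeg (i : ι) :
    (∀ r ∈ ctr (p := p) vv (cls vv ff i), (∀ ω ∈ axs ff (cls vv ff i), ω r = 0) → r = 0) ∧
      ∀ ω ∈ axs ff (cls vv ff i), (∀ v ∈ ctr (p := p) vv (cls vv ff i), ω v = 0) → ω = 0 := by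
  haveI : Module.Finite (ZMod p) V := Module.Finite.of_finite
  have S := sys hp hOp gen vv ff hgen hpair hzero hH i
  by_cases hT : S.Thin
  · exact ⟨fun r hr h => S.radical hT hr h, fun ω hω h => S.radical_right hT hω h⟩
  · have hT' : ¬ S.flip.Thin := fun h => hT (S.flip.thin_flip h)
    exact ⟨fun r hr h => S.radical_fat hT hr h, fun ω hω h => S.flip.radical_fat hT' hω h⟩

include hgen hH hpair hzero hp hOp in
theorem coords (i : ι) :
    (∀ f : Module.Dual (ZMod p) ↥(ctr (p := p) vv (cls vv ff i)),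
      ∃ ω ∈ axs ff (cls vv ff i), ∀ x : ↥(ctr (p := p) vv (cls vv ff i)), ω (x : V) = f x) ∧
    ∃ π : V →ₗ[ZMod p] V, (∀ z, π z ∈ ctr (p := p) vv (cls vv ff i)) ∧
      (∀ z, ∀ ω ∈ axs ff (cls vv ff i), ω (π z) = ω z) ∧
      (∀ x ∈ ctr (p := p) vv (cls vv ff i), π x = x) ∧ ∀ z, (∀ ω ∈ axs ff (cls vv ff i), ω z = 0) → π z = 0 := by
  haveI : Module.Finite (ZMod p) V := Module.Finite.of_finite
  set X := ctr (p := p) vv (cls vv ff i)
  set Y := axs ff (cls vv ff i)
  obtain ⟨n1, n2⟩ := nondeg hp hOp gen vv ff hgen hpair hzero hH i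
  let a : X →ₗ[ZMod p] Module.Dual (ZMod p) Y := ((evalP p V).comp X.subtype).compl₂ Y.subtype
  let b : Y →ₗ[ZMod p] Module.Dual (ZMod p) X := a.flip
  have ha : Function.Injective a := (injective_iff_map_eq_zero a).2 fun x hx =>
    Subtype.ext (n1 x x.2 fun ω hω => LinearMap.congr_fun hx ⟨ω, hω⟩)
  have hb : Function.Injective b := LinearMap.ker_eq_bot.1 <| LinearMap.ker_eq_bot'.2 fun ω hω =>
    Subtype.ext (n2 ω ω.2 fun v hv => LinearMap.congr_fun hω ⟨v, hv⟩)
  have h1 := LinearMap.finrank_le_finrank_of_injective ha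
  have h2 := LinearMap.finrank_le_finrank_of_injective hb
  rw [Subspace.dual_finrank_eq] at h1 h2
  have hbs : Function.Surjective b :=
    (LinearMap.injective_iff_surjective_of_finrank_eq_finrank (by rw [Subspace.dual_finrank_eq]; omega)).1 hb
  have hae : Function.Surjective a :=
    (LinearMap.injective_iff_surjective_of_finrank_eq_finrank (by rw [Subspace.dual_finrank_eq]; omega)).1 ha
  let e := LinearEquiv.ofBijective a ⟨ha, hae⟩
  refine ⟨fun f => ?_, (X.subtype.comp e.symm.toLinearMap).comp ((evalP p V).compl₂ Y.subtype), fun z => ?_,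
    fun z ω hω => ?_, fun x hx => ?_, fun z hz => ?_⟩
  · obtain ⟨ω, hω⟩ := hbs f
    exact ⟨ω, ω.2, fun x => LinearMap.congr_fun hω x⟩
  · exact (e.symm _).2
  · exact LinearMap.congr_fun (e.apply_symm_apply ((evalP p V).compl₂ Y.subtype z)) ⟨ω, hω⟩
  · show ((e.symm ((evalP p V).compl₂ Y.subtype x) : X) : V) = x
    rw [show (evalP p V).compl₂ Y.subtype x = e ⟨x, hx⟩ from rfl, e.symm_apply_apply]
  · show ((e.symm ((evalP p V).compl₂ Y.subtype z) : X) : V) = 0
    rw [show (evalP p V).compl₂ Y.subtype z = 0 from LinearMap.ext fun ω => hz ω ω.2, map_zero]; rfl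

include hgen hH hpair hzero hp hOp in
/-- The group induced on a class. -/
theorem class_image (i : ι) (ρ : ↥H →* (↥(ctr (p := p) vv (cls vv ff i)) ≃ₗ[ZMod p] ↥(ctr (p := p) vv (cls vv ff i))))
    (hρ : ∀ (h : ↥H) x, ((ρ h x : ↥(ctr (p := p) vv (cls vv ff i))) : V) = (h : V ≃ₗ[ZMod p] V) x)
    (L : Subgroup ↥H) (hL : ∀ h : ↥H, (∀ j, j ∉ cls vv ff i → ∀ z ∈ ctr (p := p) vv (cls vv ff j), h.1 z = z) →
      (∀ z, (∀ j, ff j z = 0) → h.1 z = z) → h ∈ L) :
    (((L.map ρ : Subgroup (↥(ctr (p := p) vv (cls vv ff i)) ≃ₗ[ZMod p] ↥(ctr (p := p) vv (cls vv ff i)))) : Set (↥(ctr (p := p) vv (cls vv ff i)) ≃ₗ[ZMod p] ↥(ctr (p := p) vv (cls vv ff i)))) =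
        {f : ↥(ctr (p := p) vv (cls vv ff i)) ≃ₗ[ZMod p] ↥(ctr (p := p) vv (cls vv ff i)) | LinearMap.det (f : ↥(ctr (p := p) vv (cls vv ff i)) →ₗ[ZMod p] ↥(ctr (p := p) vv (cls vv ff i))) = 1} ∨
      ∃ B : LinearMap.BilinForm (ZMod p) ↥(ctr (p := p) vv (cls vv ff i)), B.IsAlt ∧ B.Nondegenerate ∧
        ((L.map ρ : Subgroup (↥(ctr (p := p) vv (cls vv ff i)) ≃ₗ[ZMod p] ↥(ctr (p := p) vv (cls vv ff i)))) : Set (↥(ctr (p := p) vv (cls vv ff i)) ≃ₗ[ZMod p] ↥(ctr (p := p) vv (cls vv ff i)))) =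
          {f : ↥(ctr (p := p) vv (cls vv ff i)) ≃ₗ[ZMod p] ↥(ctr (p := p) vv (cls vv ff i)) | ∀ x y, B (f x) (f y) = B x y}) := by
  classical
  haveI : Module.Finite (ZMod p) V := Module.Finite.of_finite
  let c := cls vv ff i
  let X := ctr (p := p) vv c
  have S := sys hp hOp gen vv ff hgen hpair hzero hH i
  obtain ⟨hlift, -⟩ := coords hp hOp gen vv ff hgen hpair hzero hH i
  -- pairs give transvections in the image of `L`
  have inL : ∀ {v φ}, (v, φ) ∈ pairs vv ff H c → ∀ hv : v ∈ X, ∀ (f : Module.Dual (ZMod p) X),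
      (∀ x : X, φ (x : V) = f x) → ∀ hf : f ⟨v, hv⟩ = 0, LinearEquiv.transvection hf ∈ L.map ρ := by
    rintro v φ ⟨h0, -, hφ, g, hg, e⟩ hv f hfφ hf
    refine ⟨⟨g, hg⟩, hL _ (fun j hj z hz => ?_) (fun z hz => ?_), LinearEquiv.ext fun x => Subtype.ext ?_⟩
    · have : φ z = 0 := by
        have hle : ctr (p := p) vv (cls vv ff j) ≤ LinearMap.ker φ := Submodule.span_le.2 (by
          rintro _ ⟨l, hl, rfl⟩
          refine (cross vv ff (i := i) (j := l) fun hli => hj ?_).2 φ hφ
          exact Relation.ReflTransGen.trans hli (rel_symm vv ff hl))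
        exact hle hz
      rw [e, this, zero_smul, add_zero]
    · have : φ z = 0 :=
        (Submodule.span_le.2 (by rintro _ ⟨l, -, rfl⟩; exact hz l) : axs ff c ≤ LinearMap.ker (evalP p V z)) hφ
      rw [e, this, zero_smul, add_zero]
    · rw [hρ, LinearEquiv.transvection.apply, e, hfφ]; rfl
  have gens : ∀ (Q : (X ≃ₗ[ZMod p] X) → Prop), Q 1 → (∀ f g, Q f → Q g → Q (f * g)) → (∀ f, Q f → Q f⁻¹) →
      (∀ j ∈ c, ∀ t : X ≃ₗ[ZMod p] X, (∀ x : X, (t x : V) = (x : V) + ff j x • vv j) → Q t) →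
      ∀ h : ↥H, Q (ρ h) := by
    intro Q h1 hmul hinv hg h
    obtain ⟨h, hh⟩ := h
    have hh' := hh
    rw [hH] at hh'
    induction hh' using Subgroup.closure_induction with
    | mem g hg' =>
      obtain ⟨j, rfl⟩ := hg'
      by_cases hj : j ∈ c
      · exact hg j hj _ fun x => by rw [hρ]; exact hgen j x
      · have : ρ ⟨gen j, hh⟩ = 1 := LinearEquiv.ext fun x => Subtype.ext (by
          rw [hρ]
          show gen j x = x
          rw [hgen, (cross vv ff hj).1 x x.2, zero_smul, add_zero])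
        rw [this]; exact h1
    | one => rw [show (⟨1, hh⟩ : H) = 1 from rfl, map_one]; exact h1
    | mul a b ha hb iha ihb =>
      rw [← hH] at ha hb
      rw [show (⟨a * b, hh⟩ : H) = ⟨a, ha⟩ * ⟨b, hb⟩ from rfl, map_mul]
      exact hmul _ _ (iha ha) (ihb hb)
    | inv a ha iha =>
      rw [← hH] at ha
      rw [show (⟨a⁻¹, hh⟩ : H) = ⟨a, ha⟩⁻¹ from rfl, map_inv]
      exact hinv _ (iha ha)
  by_cases hT : S.Thin
  · right
    obtain ⟨θ, hθ, hθu⟩ := S.exists_form hT
    let B : LinearMap.BilinForm (ZMod p) X :=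
      LinearMap.mk₂ (ZMod p) (fun x y : X => (θ y) (x : V)) (fun x x' y => by simp) (fun t x y => by simp)
        (fun x y y' => by simp) (fun t x y => by simp)
    have hB : B.IsAlt := fun x => (hθ x).2.1
    have hN : ∀ x, (∀ y, B y x = 0) → x = 0 := fun x h => by
      by_contra hx
      exact (hθ x).2.2.2 hx ((nondeg hp hOp gen vv ff hgen hpair hzero hH i).2 _ (hθ x).1 fun v hv => h ⟨v, hv⟩)
    have hsw : ∀ x y, B x y = -B y x := fun x y => (LinearMap.IsAlt.neg hB y x).symm
    refine ⟨B, hB, ⟨fun x h => hN x fun y => by rw [hsw, h y, neg_zero], fun x h => hN x h⟩,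
      Set.ext fun f => ⟨?_, ?_⟩⟩
    · rintro ⟨h, -, rfl⟩
      refine gens (fun f => ∀ x y, B (f x) (f y) = B x y) (fun x y => rfl)
        (fun f g hf hg x y => by simp [hf, hg]) (fun f hf x y => ?_) ?_ h
      · have := hf (f⁻¹ x) (f⁻¹ y)
        rw [show f (f⁻¹ x) = x from f.apply_symm_apply x, show f (f⁻¹ y) = y from f.apply_symm_apply y] at this
        exact this.symm
      intro j hj t ht x y
      by_cases h0 : vv j = 0
      · rw [show t x = x from Subtype.ext (by rw [ht, h0]; simp),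
          show t y = y from Subtype.ext (by rw [ht, h0]; simp)]
      set v : X := ⟨vv j, Submodule.subset_span ⟨j, hj, rfl⟩⟩
      obtain ⟨d, hd⟩ := hθu (v := vv j) (φ := ff j) ⟨⟨hpair j, v.2, Submodule.subset_span ⟨j, hj, rfl⟩, gen j,
        gen_mem gen hH j, hgen j⟩, h0, fun e => h0 ((hzero j).2 e)⟩ v.2
      have hfj : ∀ z : X, ff j z = d * B z v := fun z => by rw [hd]; rfl
      have htx : ∀ z : X, t z = z + ff j z • v := fun z => Subtype.ext (ht z)
      rw [htx, htx]
      simp only [map_add, map_smul, LinearMap.add_apply, LinearMap.smul_apply, smul_eq_mul, hfj, hB v]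
      rw [hsw v y]
      ring
    · intro hf
      refine sp_gen B hB hN (L.map ρ) (fun a t hfa => ?_) f hf
      exact inL (v := (a : V)) (φ := t • θ a) (S.smulR t (hθ a).2.2.1) a.2 (t • B.flip a)
        (fun x => by simp [B]) hfa
  · left
    refine Set.ext fun f => ⟨?_, ?_⟩
    · rintro ⟨h, -, rfl⟩
      refine gens (fun f => LinearMap.det (f : X →ₗ[ZMod p] X) = 1) LinearMap.det_id
        (fun f g hf hg => by
          rw [show ((f * g : X ≃ₗ[ZMod p] X) : X →ₗ[ZMod p] X) = (f : X →ₗ[ZMod p] X) * (g : X →ₗ[ZMod p] X) from rfl,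
            map_mul, hf, hg, mul_one])
        (fun f hf => by
          have : LinearMap.det ((f⁻¹ * f : X ≃ₗ[ZMod p] X) : X →ₗ[ZMod p] X) = 1 := by
            rw [inv_mul_cancel]; exact LinearMap.det_id
          rw [show ((f⁻¹ * f : X ≃ₗ[ZMod p] X) : X →ₗ[ZMod p] X) = (f⁻¹ : X ≃ₗ[ZMod p] X).toLinearMap * (f : X →ₗ[ZMod p] X) from rfl,
            map_mul, hf, mul_one] at this
          exact this) ?_ h
      intro j hj t ht
      let f : Module.Dual (ZMod p) X := (ff j).comp X.subtype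
      let v : X := ⟨vv j, Submodule.subset_span ⟨j, hj, rfl⟩⟩
      rw [show (t : X →ₗ[ZMod p] X) = LinearMap.transvection f v from LinearMap.ext fun x => Subtype.ext (ht x),
        LinearMap.transvection.det, show f v = 0 from hpair j, add_zero]
    · intro hf
      refine sl_gen (L.map ρ) (fun φ v hv => ?_) f hf
      obtain ⟨ω, hω, hωφ⟩ := hlift φ
      exact inL (v := (v : V)) (φ := ω) (S.full hT v v.2 ω hω (by
        show ω (v : V) = 0
        rw [hωφ]; exact hv)) v.2 φ hωφ hv

end Main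

end Cfsg.Agent.Transvections
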