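import Mathlib

/-!
# Systems of transvections

A set `T` of pairs (centre, axis) closed under sums, multiples and conjugation, connected, and with
no unipotent normal subgroup.  Every point is thin (one axis) or the set is full.
-/

set_option linter.all false
set_option autoImplicit false

namespace Cfsg.Agent.Transvections

variable {k : Type*} [Field k] {V W : Type*} [AddCommGroup V] [Module k V] [AddCommGroup W] [Module k W]

/-- A non-zero member. -/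
def Elt (T : Set (V × W)) (e : V × W) : Prop := e ∈ T ∧ e.1 ≠ 0 ∧ e.2 ≠ 0

/-- The two transvections do not commute. -/
def Adj (P : V →ₗ[k] W →ₗ[k] k) (e f : V × W) : Prop := P f.1 e.2 ≠ 0 ∨ P e.1 f.2 ≠ 0

/-- The axioms. -/
structure Sys (P : V →ₗ[k] W →ₗ[k] k) (X : Submodule k V) (Y : Submodule k W) (T : Set (V × W)) : Prop where
  pair : ∀ {v φ}, (v, φ) ∈ T → P v φ = 0
  mem : ∀ {v φ}, (v, φ) ∈ T → v ∈ X ∧ φ ∈ Y
  zeroR : ∀ {v}, v ∈ X → (v, (0 : W)) ∈ T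
  zeroL : ∀ {φ}, φ ∈ Y → ((0 : V), φ) ∈ T
  smulL : ∀ (c : k) {v φ}, (v, φ) ∈ T → (c • v, φ) ∈ T
  smulR : ∀ (c : k) {v φ}, (v, φ) ∈ T → (v, c • φ) ∈ T
  addL : ∀ {v v' φ}, (v, φ) ∈ T → (v', φ) ∈ T → (v + v', φ) ∈ T
  addR : ∀ {v φ φ'}, (v, φ) ∈ T → (v, φ') ∈ T → (v, φ + φ') ∈ T
  conj : ∀ {v φ w ψ}, (v, φ) ∈ T → (w, ψ) ∈ T → (w + P w φ • v, ψ - P v ψ • φ) ∈ T
  spanL : X ≤ Submodule.span k {v | ∃ φ, Elt T (v, φ)}
  spanR : Y ≤ Submodule.span k {φ | ∃ v, Elt T (v, φ)}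
  red : ∀ (A : Submodule k V) (B : Submodule k W), A ≤ X → B ≤ Y → (∀ a ∈ A, ∀ b ∈ B, P a b = 0) →
    (∀ {v φ}, (v, φ) ∈ T → ∀ a ∈ A, a + P a φ • v ∈ A) →
    (∀ {v φ}, (v, φ) ∈ T → ∀ b ∈ B, b - P v b • φ ∈ B) →
    ∀ {v φ}, (v, φ) ∈ T → v ∈ A → φ ∈ B → v = 0 ∨ φ = 0
  faith : ∀ {v φ v' φ'}, (v, φ) ∈ T → (v', φ') ∈ T → P v' φ = 0 → P v φ' = 0 →
    (∀ x ∈ X, ∀ ω ∈ Y, P x φ * P v ω = P x φ' * P v' ω) → ∀ x ω, P x φ * P v ω = P x φ' * P v' ω
  conn : ∀ {e f}, Elt T e → Elt T f → Relation.ReflTransGen (fun a b => Elt T b ∧ Adj P a b) e f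
  sepL : ∀ v, (∀ ω, P v ω = 0) → v = 0
  sepR : ∀ ω, (∀ v, P v ω = 0) → ω = 0
  two : (2 : k) ≠ 0

variable {P : V →ₗ[k] W →ₗ[k] k} {X : Submodule k V} {Y : Submodule k W} {T : Set (V × W)}

theorem elt_swap_iff {e : W × V} : Elt (Prod.swap ⁻¹' T) e ↔ Elt T e.swap :=
  ⟨fun h => ⟨h.1, h.2.2, h.2.1⟩, fun h => ⟨h.1, h.2.2, h.2.1⟩⟩

theorem Sys.flip (S : Sys P X Y T) : Sys P.flip Y X (Prod.swap ⁻¹' T) where
  pair := fun h => S.pair h
  mem := fun h => (S.mem h).symm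
  zeroR := fun h => S.zeroL h
  zeroL := fun h => S.zeroR h
  smulL := fun c _ _ h => S.smulR c h
  smulR := fun c _ _ h => S.smulL c h
  addL := fun h h' => S.addR h h'
  addR := fun h h' => S.addL h h'
  conj := fun {φ v ψ w} h h' => by
    show (w - P w φ • v, ψ + P v ψ • φ) ∈ T
    have := S.conj (S.smulL (-1 : k) h) h'
    simpa [sub_eq_add_neg] using this
  spanL := S.spanR.trans (Submodule.span_mono fun φ ⟨v, h⟩ => ⟨v, h.1, h.2.2, h.2.1⟩)
  spanR := S.spanL.trans (Submodule.span_mono fun v ⟨φ, h⟩ => ⟨φ, h.1, h.2.2, h.2.1⟩)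
  red := fun A B hA hB h0 hinvA hinvB {φ v} h hφ hv => by
    refine (S.red B A hB hA (fun b hb a ha => h0 a ha b hb) ?_ ?_ h hv hφ).symm
    · intro v φ h b hb
      have := hinvB (v := φ) (φ := -v) (by simpa using S.smulL (-1 : k) h) b hb
      simpa using this
    · intro v φ h a ha
      have := hinvA (v := φ) (φ := -v) (by simpa using S.smulL (-1 : k) h) a ha
      simpa [sub_eq_add_neg] using this
  faith := fun h h' h1 h2 hx ω x => by
    have := S.faith h h' h2 h1 (fun x hx' ω hω => by simpa [mul_comm] using hx ω hω x hx') x ω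
    simpa [mul_comm] using this
  conn := fun {e f} he hf => by
    have key : Relation.ReflTransGen (fun a b : W × V => Elt (Prod.swap ⁻¹' T) b ∧ Adj P.flip a b)
        e.swap.swap f.swap.swap :=
      Relation.ReflTransGen.lift Prod.swap (fun a b hab => ⟨elt_swap_iff.2 (by simpa using hab.1), hab.2.symm⟩) _ _
        (S.conn (elt_swap_iff.1 he) (elt_swap_iff.1 hf))
    simpa using key
  sepL := fun v h => S.sepR v h
  sepR := fun v h => S.sepL v h
  two := S.two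

namespace Sys

variable (S : Sys P X Y T) {v w : V} {φ ψ : W}
include S

theorem neg_left (h : (v, φ) ∈ T) : (-v, φ) ∈ T := by simpa using S.smulL (-1 : k) h

theorem rule (h : (v, φ) ∈ T) (h' : (w, ψ) ∈ T) (ha : P w φ ≠ 0) (hb : P v ψ = 0) : (v, ψ) ∈ T := by
  have h1 := S.conj h h'
  rw [hb, zero_smul, sub_zero] at h1
  have h2 := S.smulL (P w φ)⁻¹ (S.addL h1 (S.neg_left h'))
  rwa [show w + P w φ • v + -w = P w φ • v by abel, smul_smul, inv_mul_cancel₀ ha, one_smul] at h2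

/-- The radical part of `X` is invariant and contains no centre. -/
theorem not_rad (h : Elt T (v, φ)) : ∃ ω ∈ Y, P v ω ≠ 0 := by
  by_contra hall
  push Not at hall
  let A : Submodule k V :=
    { carrier := {x | x ∈ X ∧ ∀ ω ∈ Y, P x ω = 0}
      zero_mem' := ⟨zero_mem _, fun ω _ => by simp⟩
      add_mem' := fun {x y} hx hy => ⟨add_mem hx.1 hy.1, fun ω hω => by simp [hx.2 ω hω, hy.2 ω hω]⟩
      smul_mem' := fun c x hx => ⟨X.smul_mem c hx.1, fun ω hω => by simp [hx.2 ω hω]⟩ }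
  rcases S.red A Y (fun x hx => hx.1) le_rfl (fun a ha b hb => ha.2 b hb)
      (fun {v φ} hv a ha => by rw [ha.2 φ (S.mem hv).2, zero_smul, add_zero]; exact ha)
      (fun {v φ} hv b hb => sub_mem hb (Y.smul_mem _ (S.mem hv).2)) h.1 ⟨(S.mem h.1).1, hall⟩ (S.mem h.1).2 with e | e
  · exact h.2.1 e
  · exact h.2.2 e

theorem exists_partner (h : Elt T (v, φ)) : ∃ z χ, Elt T (z, χ) ∧ P v χ ≠ 0 := by
  obtain ⟨ω, hω, hne⟩ := S.not_rad h
  by_contra hall
  push Not at hall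
  refine hne ?_
  have hle : Y ≤ LinearMap.ker (P v) := S.spanR.trans (Submodule.span_le.2 fun χ ⟨z, hz⟩ => hall z χ hz)
  exact hle hω

/-- A property spreading along `P v χ ≠ 0` reaches every centre. -/
theorem propagate (Good : V → Prop) (hpt : ∀ v, Good v → ∃ φ, Elt T (v, φ))
    (hconj : ∀ {v φ w}, (v, φ) ∈ T → Good w → Good (w + P w φ • v))
    (hstep : ∀ {v z χ}, Good v → Elt T (z, χ) → P v χ ≠ 0 → Good z) {v₀ : V} (h₀ : Good v₀)
    {z : V} {χ : W} (hz : Elt T (z, χ)) : Good z := by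
  obtain ⟨φ₀, hφ₀⟩ := hpt v₀ h₀
  set A : Submodule k V := Submodule.span k {v | Good v}
  have hAX : A ≤ X := Submodule.span_le.2 fun v hv => by
    obtain ⟨φ, hφ⟩ := hpt v hv; exact (S.mem hφ.1).1
  let B : Submodule k W :=
    { carrier := {ω | ω ∈ Y ∧ ∀ a ∈ A, P a ω = 0}
      zero_mem' := ⟨zero_mem _, fun a _ => by simp⟩
      add_mem' := fun {x y} hx hy => ⟨add_mem hx.1 hy.1, fun a ha => by simp [hx.2 a ha, hy.2 a ha]⟩
      smul_mem' := fun c x hx => ⟨Y.smul_mem c hx.1, fun a ha => by simp [hx.2 a ha]⟩ }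
  have hinvA : ∀ {v φ}, (v, φ) ∈ T → ∀ a ∈ A, a + P a φ • v ∈ A := fun {v φ} hv a ha => by
    let f : V →ₗ[k] V := LinearMap.id + (P.flip φ).smulRight v
    have : A ≤ A.comap f := Submodule.span_le.2 fun w hw => Submodule.subset_span (by
      simpa [f] using hconj hv hw)
    simpa [f] using this ha
  have hinvB : ∀ {v φ}, (v, φ) ∈ T → ∀ b ∈ B, b - P v b • φ ∈ B := fun {v φ} hv b hb => by
    refine ⟨sub_mem hb.1 (Y.smul_mem _ (S.mem hv).2), fun a ha => ?_⟩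
    have := hb.2 _ (hinvA hv a ha)
    simp only [map_add, map_smul, LinearMap.add_apply, LinearMap.smul_apply, hb.2 a ha, zero_add, smul_eq_mul] at this
    simp only [map_sub, map_smul, hb.2 a ha, smul_eq_mul, zero_sub, neg_eq_zero]
    rw [mul_comm]; exact this
  suffices ∀ e, Relation.ReflTransGen (fun a b => Elt T b ∧ Adj P a b) (v₀, φ₀) e → Good e.1 ∧ Elt T e from
    (this _ (S.conn hφ₀ hz)).1
  intro e he
  induction he with
  | refl => exact ⟨h₀, hφ₀⟩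
  | @tail b c _ hbc ih =>
    obtain ⟨v, φ⟩ := b
    obtain ⟨z, χ⟩ := c
    obtain ⟨hel, hadj⟩ := hbc
    refine ⟨?_, hel⟩
    by_contra hng
    have hχ : ∀ w, Good w → P w χ = 0 := fun w hw => by_contra fun hne => hng (hstep hw hel hne)
    have hb : P v χ = 0 := hχ v ih.1
    have h1 : (v, χ) ∈ T := S.rule ih.2.1 hel.1 (hadj.resolve_right (not_not.2 hb)) hb
    have hB : χ ∈ B := ⟨(S.mem h1).2, fun a ha => by
      have : A ≤ LinearMap.ker (P.flip χ) := Submodule.span_le.2 fun w hw => hχ w hw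
      exact this ha⟩
    rcases S.red A B hAX (fun x hx => hx.1) (fun a ha b hb => hb.2 a ha) hinvA hinvB h1
        (Submodule.subset_span ih.1) hB with e | e
    · exact ih.2.2.1 e
    · exact hel.2.2 e

/-- Two axes at one centre. -/
def Big (_S : Sys P X Y T) (v : V) : Prop :=
  ∃ φ ψ, Elt T (v, φ) ∧ (v, ψ) ∈ T ∧ ∀ c : k, ψ ≠ c • φ

/-- Every centre has one axis. -/
def Thin (_S : Sys P X Y T) : Prop :=
  ∀ {v φ ψ}, Elt T (v, φ) → (v, ψ) ∈ T → ∃ c : k, ψ = c • φ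

theorem exists_big (h : ¬ S.Thin) : ∃ v, S.Big v := by
  unfold Thin at h
  push Not at h
  obtain ⟨v, φ, ψ, h1, h2, h3⟩ := h
  exact ⟨v, φ, ψ, h1, h2, h3⟩

/-- Two axes at one centre give an axis killing a given point. -/
theorem exists_axis_zero (hB : S.Big v) (z : V) : ∃ ω, Elt T (v, ω) ∧ P z ω = 0 := by
  obtain ⟨φ, ψ, h1, h2, h3⟩ := hB
  by_cases ha : P z φ = 0
  · exact ⟨φ, h1, ha⟩
  refine ⟨ψ + (-(P z ψ / P z φ)) • φ, ⟨S.addR h2 (S.smulR _ h1.1), h1.2.1, fun e => h3 (P z ψ / P z φ) ?_⟩, ?_⟩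
  · have e' : ψ + (-(P z ψ / P z φ)) • φ = 0 := e
    linear_combination (norm := module) e'
  · simp only [map_add, map_smul, smul_eq_mul]
    field_simp
    ring

theorem big_step {z : V} {χ : W} (hB : S.Big v) (hz : Elt T (z, χ)) (hne : P v χ ≠ 0) : S.Big z := by
  obtain ⟨ω, hω, hzω⟩ := S.exists_axis_zero hB z
  refine ⟨χ, ω, hz, S.rule hz.1 hω.1 hne hzω, fun c e => ?_⟩
  rcases eq_or_ne c 0 with rfl | hc
  · exact hω.2.2 (by simpa using e)
  · refine hne ?_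
    have := S.pair hω.1
    rw [e, map_smul, smul_eq_mul] at this
    exact (mul_eq_zero.1 this).resolve_left hc

theorem cobig_of_big (hB : S.Big v) : ∃ ω, S.flip.Big ω := by
  obtain ⟨φ, ψ, h1, h2, h3⟩ := hB
  obtain ⟨z, χ, hz, hne⟩ := S.exists_partner h1
  obtain ⟨ω, hω, hzω⟩ := S.exists_axis_zero ⟨φ, ψ, h1, h2, h3⟩ z
  refine ⟨ω, v, z, elt_swap_iff.2 hω, S.rule hz.1 hω.1 hne hzω, fun c e => hne ?_⟩
  rcases eq_or_ne c 0 with rfl | hc
  · exact absurd (show z = 0 by simpa using e) hz.2.1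
  · have := S.pair hz.1
    rw [e, map_smul, LinearMap.smul_apply, smul_eq_mul] at this
    exact (mul_eq_zero.1 this).resolve_left hc

theorem thin_flip (h : S.Thin) : S.flip.Thin := by
  by_contra hn
  obtain ⟨ω, hω⟩ := S.flip.exists_big hn
  obtain ⟨v, φ, ψ, h1, h2, h3⟩ := S.flip.cobig_of_big hω
  obtain ⟨c, e⟩ := h (v := v) ⟨h1.1, h1.2.1, h1.2.2⟩ h2
  exact h3 c e

theorem big_conj (h : (v, φ) ∈ T) (hB : S.Big w) : S.Big (w + P w φ • v) := by
  obtain ⟨α, β, h1, h2, h3⟩ := hB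
  have hp := S.pair h
  have hne : w + P w φ • v ≠ 0 := fun e => by
    have hw : w = -(P w φ • v) := eq_neg_of_add_eq_zero_left e
    have : P w φ = 0 := by rw [hw]; simp [hp]
    exact h1.2.1 (by simpa [this] using hw)
  have inj : ∀ ω, ω - P v ω • φ = 0 → ω = 0 := fun ω e => by
    have hω : ω = P v ω • φ := sub_eq_zero.1 e
    have : P v ω = 0 := by rw [hω]; simp [hp]
    rw [hω, this, zero_smul]
  refine ⟨α - P v α • φ, β - P v β • φ, ⟨S.conj h h1.1, hne, fun e => h1.2.2 (inj _ e)⟩, S.conj h h2,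
    fun c e => h3 c (sub_eq_zero.1 (inj _ ?_))⟩
  have e' : β - P v β • φ - c • (α - P v α • φ) = 0 := sub_eq_zero.2 e
  simp only [map_sub, map_smul, smul_eq_mul]
  linear_combination (norm := module) e'

theorem all_big (h : ¬ S.Thin) {z : V} {χ : W} (hz : Elt T (z, χ)) : S.Big z := by
  obtain ⟨v₀, h₀⟩ := S.exists_big h
  exact S.propagate S.Big (fun v ⟨φ, _, h1, _⟩ => ⟨φ, h1⟩) (fun h hB => S.big_conj h hB)
    (fun hB hz hne => S.big_step hB hz hne) h₀ hz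

end Sys

end Cfsg.Agent.Transvections
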