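import Cfsg.Agent.Lib.Transvections.System

/-!
# One axis at each centre: an alternating form
-/

set_option linter.all false
set_option autoImplicit false

namespace Cfsg.Agent.Transvections.Sys

open Cfsg.Agent.Transvections

variable {k : Type*} [Field k] {V W : Type*} [AddCommGroup V] [Module k V] [AddCommGroup W] [Module k W]
  {P : V →ₗ[k] W →ₗ[k] k} {X : Submodule k V} {Y : Submodule k W} {T : Set (V × W)}
  (S : Sys P X Y T) {v w x z : V} {φ ψ χ : W}

include S

variable (hT : S.Thin)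
include hT

theorem adj_symm (h1 : Elt T (v, φ)) (h2 : Elt T (w, ψ)) (h : P w φ ≠ 0) : P v ψ ≠ 0 := by
  intro h0
  obtain ⟨c, rfl⟩ := hT h1 (S.rule h1.1 h2.1 h h0)
  have := S.pair h2.1
  rw [map_smul, smul_eq_mul] at this
  exact h2.2.2 (by rw [(mul_eq_zero.1 this).resolve_right h, zero_smul])

theorem adj_zero (h1 : Elt T (v, φ)) (h2 : Elt T (w, ψ)) (h : P w φ = 0) : P v ψ = 0 :=
  by_contra fun hne => S.adj_symm hT h2 h1 hne h

theorem line (h1 : Elt T (v, φ)) (h2 : Elt T (w, ψ)) (h : P w φ ≠ 0) (t : k) :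
    Elt T (w + (t * P w φ) • v, ψ - (t * P v ψ) • φ) := by
  have hb := S.adj_symm hT h1 h2 h
  refine ⟨?_, fun e => h ?_, fun e => hb ?_⟩
  · have := S.conj (S.smulL t h1.1) h2.1
    simpa [smul_smul, mul_comm, map_smul] using this
  · have := congrArg (fun y => P y φ) e
    simpa [S.pair h1.1] using this
  · have e' : ψ - (t * P v ψ) • φ = 0 := e
    have := congrArg (P v) e'
    simpa [S.pair h1.1] using this

/-- Two centres have a common neighbour. -/
theorem common (h1 : Elt T (v, φ)) (h2 : Elt T (w, ψ)) :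
    ∃ z χ, Elt T (z, χ) ∧ P v χ ≠ 0 ∧ P w χ ≠ 0 := by
  suffices ∀ f, Relation.ReflTransGen (fun a b => Elt T b ∧ Adj P a b) (v, φ) f →
      Elt T f ∧ ∃ z χ, Elt T (z, χ) ∧ P v χ ≠ 0 ∧ P f.1 χ ≠ 0 from (this _ (S.conn h1 h2)).2
  intro f hf
  induction hf with
  | refl =>
    obtain ⟨z, χ, hz, hne⟩ := S.exists_partner h1
    exact ⟨h1, z, χ, hz, hne, hne⟩
  | @tail b c _ hbc ih =>
    obtain ⟨hc, hadj⟩ := hbc
    refine ⟨hc, ?_⟩
    obtain ⟨hb, a, α, ha, hva, hya⟩ := ih
    obtain ⟨y, η⟩ := b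
    obtain ⟨z, χ⟩ := c
    have hzη : P z η ≠ 0 := hadj.elim id fun h => fun h0 => h (S.adj_zero hT hb hc h0)
    by_cases hza : P z α ≠ 0
    · exact ⟨a, α, ha, hva, hza⟩
    by_cases hvb : P v η ≠ 0
    · exact ⟨y, η, hb, hvb, hzη⟩
    push Not at hza hvb
    refine ⟨_, _, S.line hT ha hb hya 1, ?_, ?_⟩
    · simp only [map_sub, map_smul, hvb, zero_sub, smul_eq_mul, neg_ne_zero, one_mul]
      exact mul_ne_zero (S.adj_symm hT ha hb hya) hva
    · simp only [map_sub, map_smul, hza, smul_eq_mul, mul_zero, sub_zero]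
      exact hzη

/-- A sum of two centres outside the radical is a centre. -/
theorem sum_point (h1 : Elt T (v, φ)) (h2 : Elt T (w, ψ)) {y : V} {η : W} (hy : Elt T (y, η))
    (hne : P (v + w) η ≠ 0) : ∃ ω, Elt T (v + w, ω) := by
  have add_adj : ∀ {v w : V} {φ ψ : W}, Elt T (v, φ) → Elt T (w, ψ) → P w φ ≠ 0 → ∃ ω, Elt T (v + w, ω) := by
    intro v w φ ψ h1 h2 h
    have := S.line hT h1 h2 h (P w φ)⁻¹
    rw [inv_mul_cancel₀ h, one_smul, add_comm] at this
    exact ⟨_, this⟩
  by_cases h : P w φ ≠ 0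
  · exact add_adj h1 h2 h
  push Not at h
  have h' := S.adj_zero hT h1 h2 h
  -- a common neighbour seeing the sum
  have fix : ∀ {v w : V} {φ ψ : W}, Elt T (v, φ) → Elt T (w, ψ) → P w φ = 0 → P v η ≠ 0 → P w η = 0 →
      ∃ z χ, Elt T (z, χ) ∧ P v χ ≠ 0 ∧ P w χ ≠ 0 ∧ P (v + w) χ ≠ 0 := by
    intro v w φ ψ h1 h2 h hd he
    obtain ⟨z, χ, hz, ha, hb⟩ := S.common hT h1 h2
    by_cases hab : P (v + w) χ ≠ 0
    · exact ⟨z, χ, hz, ha, hb, hab⟩
    push Not at hab
    -- replace `y` by a neighbour of `z`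
    obtain ⟨y', η', hy', hd', he', hzy⟩ : ∃ y' η', Elt T (y', η') ∧ P v η' = P v η ∧ P w η' = 0 ∧ P y' χ ≠ 0 := by
      by_cases hyz : P y χ ≠ 0
      · exact ⟨y, η, hy, rfl, he, hyz⟩
      push Not at hyz
      have hyv : P y φ ≠ 0 := S.adj_symm hT hy h1 hd
      refine ⟨_, _, S.line hT h1 hy hyv 1, ?_, ?_, ?_⟩
      · simp [S.pair h1.1]
      · simp [he, h]
      · simp [hyz, hyv, ha]
    have hq := S.adj_symm hT hz hy' hzy
    rw [map_add, LinearMap.add_apply] at hab
    have hbv : P w χ = -P v χ := eq_neg_of_add_eq_zero_right hab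
    refine ⟨_, _, S.line hT hz hy' hzy (-(P v η) / (P z η' * P v χ)), ?_, ?_, ?_⟩
    · simp only [map_sub, map_smul, smul_eq_mul, hd']
      field_simp
      intro e
      exact mul_ne_zero S.two hd (by linear_combination e)
    · simp only [map_sub, map_smul, smul_eq_mul, he', hbv]
      field_simp
      simp [hd]
    · simp only [map_add, LinearMap.add_apply, map_sub, map_smul, smul_eq_mul, hd', he', hbv]
      field_simp
      ring_nf
      simp [hd]
  obtain ⟨z, χ, hz, ha, hb, hab⟩ : ∃ z χ, Elt T (z, χ) ∧ P v χ ≠ 0 ∧ P w χ ≠ 0 ∧ P (v + w) χ ≠ 0 := by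
    by_cases hd : P v η = 0
    · have he : P w η ≠ 0 := by simpa [hd] using hne
      obtain ⟨z, χ, hz, a, b, c⟩ := fix h2 h1 h' he hd
      exact ⟨z, χ, hz, b, a, by rwa [add_comm]⟩
    by_cases he : P w η = 0
    · exact fix h1 h2 h hd he
    · exact ⟨y, η, hy, hd, he, hne⟩
  have hzv := S.adj_symm hT hz h1 ha
  have hzw := S.adj_symm hT hz h2 hb
  have e1 := S.line hT hz h1 ha 1
  have e2 := S.line hT hz h2 hb (-(P v χ / P w χ))
  obtain ⟨ω, hω⟩ := add_adj e1 e2 (by
    simp only [map_sub, map_smul, map_add, LinearMap.add_apply, LinearMap.smul_apply, smul_eq_mul, h, S.pair hz.1]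
    field_simp
    intro e
    rw [map_add, LinearMap.add_apply] at hab
    exact mul_ne_zero hzv hab (by linear_combination -e))
  refine ⟨ω, ?_⟩
  have : -(P v χ / P w χ) * P w χ = -P v χ := by field_simp
  rw [this] at hω
  convert hω using 2
  module

/-- Everything outside the radical is a centre. -/
theorem all_points {x : V} (hx : x ∈ X) (hne : ∃ ω ∈ Y, P x ω ≠ 0) : ∃ ω, Elt T (x, ω) := by
  let Pt : V → Prop := fun v => ∃ ω, Elt T (v, ω)
  let Bad : V → Prop := fun v => ∀ ω ∈ Y, P v ω = 0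
  have pair : ∀ {a b : V}, Pt a → Pt b → ¬ Bad (a + b) → Pt (a + b) := by
    rintro a b ⟨α, ha⟩ ⟨β, hb⟩ hbad
    obtain ⟨y, η, hy, hne⟩ : ∃ y η, Elt T (y, η) ∧ P (a + b) η ≠ 0 := by
      by_contra hall
      push Not at hall
      exact hbad fun ω hω => (S.spanR.trans (Submodule.span_le.2 fun η ⟨y, hy⟩ =>
        (LinearMap.mem_ker.2 (hall y η hy) : η ∈ LinearMap.ker (P (a + b))))) hω
    exact S.sum_point hT ha hb hy hne
  have smulPt : ∀ {c : k} {a : V}, c ≠ 0 → Pt a → Pt (c • a) := fun {c a} hc ⟨α, ha⟩ =>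
    ⟨α, S.smulL c ha.1, smul_ne_zero hc ha.2.1, ha.2.2⟩
  let Q : V → Prop := fun x => ∀ y, (y = 0 ∨ Pt y) → ¬ Bad (y + x) → Pt (y + x)
  suffices Q x by
    have h := this 0 (Or.inl rfl) (by simpa [Bad] using hne)
    simpa [Pt] using h
  refine Submodule.span_induction (p := fun x _ => Q x) ?_ ?_ ?_ ?_ (S.spanL hx)
  · intro a ha y hy hbad
    rcases hy with rfl | hy
    · simpa [Pt] using ha
    · exact pair hy ha hbad
  · intro y hy hbad
    rcases hy with rfl | hy
    · exact absurd (by simp [Bad]) hbad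
    · simpa using hy
  · intro a b _ _ qa qb y hy hbad
    by_cases h1 : Bad (y + a)
    · by_cases h2 : Bad (y + b)
      · have hb0 : ¬ Bad b := fun hb => hbad fun ω hω => by
          have i1 := h1 ω hω; have i2 := hb ω hω
          simp only [map_add, LinearMap.add_apply] at i1 ⊢
          linear_combination i1 + i2
        have hab : ¬ Bad (a + b) := fun hab => hb0 fun ω hω => by
          have i1 := h1 ω hω; have i2 := h2 ω hω; have i3 := hab ω hω
          simp only [map_add, LinearMap.add_apply] at i1 i2 i3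
          have : (2 : k) * P b ω = 0 := by linear_combination i2 - i1 + i3
          exact (mul_eq_zero.1 this).resolve_left S.two
        have ha0 : ¬ Bad a := fun ha => hab fun ω hω => by
          have i1 := h1 ω hω; have i2 := h2 ω hω; have i3 := ha ω hω
          simp only [map_add, LinearMap.add_apply] at i1 i2 ⊢
          linear_combination i2 - i1 + 2 * i3
        have hb' : Pt (a + b) := qb a (Or.inr (by simpa using qa 0 (Or.inl rfl) (by simpa using ha0))) hab
        rcases hy with rfl | hy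
        · simpa using hb'
        · exact pair hy hb' hbad
      · have := qa _ (Or.inr (qb y hy h2)) (by rwa [add_assoc, add_comm b])
        rwa [add_assoc, add_comm b] at this
    · have := qb _ (Or.inr (qa y hy h1)) (by rwa [add_assoc])
      rwa [add_assoc] at this
  · intro c a _ qa y hy hbad
    rcases eq_or_ne c 0 with rfl | hc
    · rcases hy with rfl | hy
      · exact absurd (by simp [Bad]) hbad
      · simpa using hy
    · have e : y + c • a = c • (c⁻¹ • y + a) := by rw [smul_add, smul_smul, mul_inv_cancel₀ hc, one_smul]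
      rw [e]
      refine smulPt hc (qa _ ?_ fun h => hbad fun ω hω => by
        rw [e, map_smul, LinearMap.smul_apply, h ω hω, smul_zero])
      rcases hy with rfl | hy
      · exact Or.inl (smul_zero _)
      · exact Or.inr (smulPt (inv_ne_zero hc) hy)

theorem radical {r : V} (hr : r ∈ X) (h0 : ∀ ω ∈ Y, P r ω = 0) : r = 0 := by
  by_cases hex : ∃ v φ, Elt T (v, φ)
  swap
  · push Not at hex
    have := S.spanL hr
    rw [show {v | ∃ φ, Elt T (v, φ)} = (∅ : Set V) from Set.eq_empty_of_forall_notMem fun v ⟨φ, h⟩ => hex v φ h,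
      Submodule.span_empty] at this
    exact (Submodule.mem_bot k).1 this
  obtain ⟨v, φ, hv⟩ := hex
  obtain ⟨ω0, hω0, hne0⟩ := S.not_rad hv
  obtain ⟨ω', hω'⟩ := S.all_points hT (add_mem (S.mem hv.1).1 hr) ⟨ω0, hω0, by simpa [h0 ω0 hω0] using hne0⟩
  have same : ∀ z, z ∈ X → (P z φ = 0 ↔ P z ω' = 0) := fun z hz => by
    by_cases hb : ∀ ω ∈ Y, P z ω = 0
    · exact ⟨fun _ => hb _ (S.mem hω'.1).2, fun _ => hb _ (S.mem hv.1).2⟩
    push Not at hb
    obtain ⟨ζ, hζ⟩ := S.all_points hT hz hb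
    have e : P (v + r) ζ = P v ζ := by simp [h0 ζ (S.mem hζ.1).2]
    constructor
    · intro h
      refine S.adj_zero hT hζ hω' ?_
      rw [e]; exact S.adj_zero hT hv hζ h
    · intro h
      refine S.adj_zero hT hζ hv ?_
      rw [← e]; exact S.adj_zero hT hω' hζ h
  obtain ⟨u, η, hu, huη⟩ := S.exists_partner hv
  have hu1 : P u φ ≠ 0 := fun h => huη (S.adj_zero hT hv hu h)
  set c := P u ω' / P u φ with hc
  have hprop : ∀ z ∈ X, P z ω' = c * P z φ := fun z hz => by
    have hz' : z - (P z φ / P u φ) • u ∈ X := sub_mem hz (X.smul_mem _ (S.mem hu.1).1)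
    have := (same _ hz').1 (by simp [div_mul_cancel₀ _ hu1])
    simp only [map_sub, map_smul, LinearMap.sub_apply, LinearMap.smul_apply, smul_eq_mul] at this
    rw [hc, div_mul_eq_mul_div, eq_div_iff hu1]
    field_simp at this
    linear_combination this
  have hcne : P u ω' ≠ 0 := fun e => hu1 ((same u (S.mem hu.1).1).2 e)
  have key := S.faith hω'.1 (S.smulR c hv.1)
    (by rw [hprop v (S.mem hv.1).1, S.pair hv.1, mul_zero])
    (by simp [h0 φ (S.mem hv.1).2, S.pair hv.1])
    (fun x hx ω hω => by rw [hprop x hx]; simp [h0 ω hω])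
  refine S.sepL r fun ω => ?_
  have := key u ω
  rw [map_smul, smul_eq_mul, ← hprop u (S.mem hu.1).1, map_add, LinearMap.add_apply, mul_add] at this
  exact (mul_eq_zero.1 (by linear_combination this : P u ω' * P r ω = 0)).resolve_left hcne

theorem radical_right {ω : W} (hω : ω ∈ Y) (h0 : ∀ v ∈ X, P v ω = 0) : ω = 0 :=
  S.flip.radical (S.thin_flip hT) hω fun v hv => h0 v hv

/-- The alternating form, as a map from centres to axes. -/
theorem exists_form :
    ∃ θ : X →ₗ[k] W, (∀ x : X, θ x ∈ Y ∧ P (x : V) (θ x) = 0 ∧ ((x : V), θ x) ∈ T ∧ (x ≠ 0 → θ x ≠ 0)) ∧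
      ∀ {v φ}, Elt T (v, φ) → ∀ hv : v ∈ X, ∃ c : k, φ = c • θ ⟨v, hv⟩ := by
  classical
  by_cases hex : ∃ v φ, Elt T (v, φ)
  swap
  · push Not at hex
    have hX : ∀ x : X, x = 0 := fun x => by
      have := S.spanL x.2
      rw [show {v | ∃ φ, Elt T (v, φ)} = (∅ : Set V) from Set.eq_empty_of_forall_notMem fun v ⟨φ, h⟩ => hex v φ h,
        Submodule.span_empty] at this
      exact Subtype.ext ((Submodule.mem_bot k).1 this)
    exact ⟨0, fun x => ⟨zero_mem _, by simp, by simpa using S.zeroR x.2, fun h => absurd (hX x) h⟩,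
      fun h _ => absurd h (hex _ _)⟩
  obtain ⟨v₀, φ₀, h₀⟩ := hex
  have hnr : ∀ x : V, x ∈ X → x ≠ 0 → ∃ ω ∈ Y, P x ω ≠ 0 := fun x hx hx0 => by
    by_contra h; push Not at h; exact hx0 (S.radical hT hx h)
  -- normalised axes off the hyperplane of `φ₀`
  have hf : ∀ x : X, P (x : V) φ₀ ≠ 0 → ∃ ω, Elt T ((x : V), ω) ∧ P v₀ ω = -P (x : V) φ₀ := fun x hx => by
    obtain ⟨ω, hω⟩ := S.all_points hT x.2 (hnr x x.2 fun e => hx (by simp [e]))
    have hne := S.adj_symm hT h₀ hω hx
    exact ⟨(-P (x : V) φ₀ / P v₀ ω) • ω, ⟨S.smulR _ hω.1, hω.2.1,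
      smul_ne_zero (div_ne_zero (neg_ne_zero.2 hx) hne) hω.2.2⟩, by simp [div_mul_cancel₀ _ hne]⟩
  choose f hfT hfN using hf
  have skew : ∀ (x y : X) (hx : P (x : V) φ₀ ≠ 0) (hy : P (y : V) φ₀ ≠ 0),
      P (x : V) (f y hy) = -P (y : V) (f x hx) := by
    intro x y hx hy
    by_cases hb : P (y : V) (f x hx) = 0
    · rw [hb, neg_zero]; exact S.adj_zero hT (hfT x hx) (hfT y hy) hb
    have hl := S.line hT (hfT x hx) (hfT y hy) hb (-(P (y : V) φ₀) / (P (x : V) φ₀ * P (y : V) (f x hx)))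
    have h0 := S.adj_zero hT h₀ hl (by
      simp only [map_add, LinearMap.add_apply, map_smul, LinearMap.smul_apply, smul_eq_mul]
      field_simp; ring)
    simp only [map_sub, map_smul, smul_eq_mul, hfN] at h0
    field_simp at h0
    rcases mul_eq_zero.1 (h0.trans (mul_zero _)) with h | h
    · exact absurd h hy
    · linear_combination -h
  set D : Set X := {x | P (x : V) φ₀ ≠ 0}
  obtain ⟨e₀, he₀⟩ : ∃ e : X, e ∈ D := by
    obtain ⟨u, η, hu, huη⟩ := S.exists_partner h₀
    exact ⟨⟨u, (S.mem hu.1).1⟩, fun h => huη (S.adj_zero hT h₀ hu h)⟩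
  have hD : Submodule.span k D = ⊤ := by
    refine top_le_iff.1 fun z _ => ?_
    by_cases hz : P (z : V) φ₀ = 0
    · have : z = (z + e₀) - e₀ := by abel
      rw [this]
      exact sub_mem (Submodule.subset_span (show P ((z : V) + e₀) φ₀ ≠ 0 by simpa [D, hz] using he₀))
        (Submodule.subset_span he₀)
    · exact Submodule.subset_span hz
  obtain ⟨b, hbD, hbspan, hbind⟩ := exists_linearIndependent k D
  let B : Module.Basis b k X := Module.Basis.mk hbind (by rw [Subtype.range_coe, hbspan, hD])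
  let θ : X →ₗ[k] W := B.constr k fun i => f i.1 (hbD i.2)
  have hθY : ∀ x, θ x ∈ Y := fun x => by
    have : LinearMap.range θ ≤ Y := by
      rw [LinearMap.range_eq_map, ← B.span_eq, Submodule.map_span, Submodule.span_le]
      rintro _ ⟨_, ⟨i, rfl⟩, rfl⟩
      simp only [θ, Module.Basis.constr_basis]
      exact (S.mem (hfT _ _).1).2
    exact this ⟨x, rfl⟩
  have sep : ∀ {ω ω' : W}, ω ∈ Y → ω' ∈ Y → (∀ y : X, P (y : V) φ₀ ≠ 0 → P (y : V) ω = P (y : V) ω') → ω = ω' := by
    intro ω ω' hω hω' h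
    refine sub_eq_zero.1 (S.radical_right hT (sub_mem hω hω') fun v hv => ?_)
    have hle : Submodule.span k D ≤ LinearMap.ker (((P.flip (ω - ω')).comp X.subtype)) :=
      Submodule.span_le.2 fun y hy => by simp [h y hy]
    have := hle (hD.ge (Submodule.mem_top (x := ⟨v, hv⟩)))
    simpa using this
  have hθf : ∀ (x : X) (hx : P (x : V) φ₀ ≠ 0), θ x = f x hx := fun x hx => by
    refine sep (hθY x) (S.mem (hfT x hx).1).2 fun y hy => ?_
    let l1 : X →ₗ[k] k := (P (y : V)).comp θ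
    let l2 : X →ₗ[k] k := -((P.flip (f y hy)).comp X.subtype)
    have hl : l1 = l2 := B.ext fun i => by
      simp only [l1, l2, θ, LinearMap.comp_apply, Module.Basis.constr_basis, LinearMap.neg_apply]
      rw [show B i = i.1 from Module.Basis.mk_apply _ _ _]
      exact skew y i.1 hy (hbD i.2)
    have := LinearMap.congr_fun hl x
    simp only [l1, l2, LinearMap.comp_apply, LinearMap.neg_apply, LinearMap.flip_apply, Submodule.subtype_apply] at this
    rw [this, skew x y hx hy, neg_neg]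
  have hθ0 : θ ⟨v₀, (S.mem h₀.1).1⟩ = φ₀ := by
    refine sep (hθY _) (S.mem h₀.1).2 fun y hy => ?_
    set v0 : X := ⟨v₀, (S.mem h₀.1).1⟩
    have e : v0 = (y + v0) - y := by abel
    have hy' : P ((y + v0 : X) : V) φ₀ ≠ 0 := by simpa [v0, S.pair h₀.1] using hy
    rw [e, map_sub, hθf _ hy', hθf _ hy, map_sub, skew y (y + v0) hy hy']
    simp [v0, S.pair (hfT y hy).1, hfN]
  have main : ∀ (x : X) {ω : W}, Elt T ((x : V), ω) → ∃ c : k, c ≠ 0 ∧ ω = c • θ x := fun x {ω} hω => by
    by_cases hx : P (x : V) φ₀ ≠ 0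
    · obtain ⟨c, hc⟩ := hT (hfT x hx) hω.1
      refine ⟨c, fun e => hω.2.2 (by rw [hc, e, zero_smul]), ?_⟩
      rw [hθf x hx]; exact hc
    push Not at hx
    have same : ∀ y : X, P (y : V) φ₀ ≠ 0 → (P (y : V) ω = 0 ↔ P (y : V) (θ x) = 0) := fun y hy => by
      have hlin : P (y : V) (θ x) = -P (x : V) (f y hy) := by
        have hy' : P ((x + y : X) : V) φ₀ ≠ 0 := by simpa [hx] using hy
        rw [show θ x = θ (x + y) - θ y by rw [map_add]; abel, hθf _ hy', hθf _ hy, map_sub, skew y (x + y) hy hy']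
        simp [S.pair (hfT y hy).1]
      rw [hlin, neg_eq_zero]
      exact ⟨S.adj_zero hT hω (hfT y hy), S.adj_zero hT (hfT y hy) hω⟩
    by_cases hall : ∀ y : X, P (y : V) φ₀ ≠ 0 → P (y : V) ω ≠ 0
    · -- the zero set of `ω` is the hyperplane of `φ₀`
      set c := P (e₀ : V) ω / P (e₀ : V) φ₀ with hc
      have hc0 : c ≠ 0 := div_ne_zero (hall e₀ he₀) he₀
      have hker : ∀ z : X, P (z : V) φ₀ = 0 → P (z : V) ω = 0 := fun z hz => by
        by_contra hzne
        refine hall (e₀ - (P (e₀ : V) ω / P (z : V) ω) • z) (by simpa [D, hz] using he₀) ?_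
        simp [div_mul_cancel₀ _ hzne]
      have hωφ : ω = c • φ₀ := by
        refine sep (S.mem hω.1).2 (Y.smul_mem _ (S.mem h₀.1).2) fun y _ => ?_
        have := hker (y - (P (y : V) φ₀ / P (e₀ : V) φ₀) • e₀) (by simp [div_mul_cancel₀ _ he₀])
        simp only [Submodule.coe_sub, Submodule.coe_smul, map_sub, map_smul, LinearMap.sub_apply, LinearMap.smul_apply,
          smul_eq_mul] at this
        simp only [map_smul, smul_eq_mul, hc]
        field_simp at this ⊢
        linear_combination this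
      -- so `x` is a multiple of `v₀`
      have hxv : (v₀, c • φ₀) ∈ T := S.smulR c h₀.1
      have hflip : S.flip.Thin := S.thin_flip hT
      unfold Thin at hflip
      obtain ⟨d, hd⟩ := hflip (v := ω) (φ := v₀) (ψ := (x : V))
        ⟨show (v₀, ω) ∈ T by rw [hωφ]; exact hxv, hω.2.2, h₀.2.1⟩ hω.1
      have hd0 : d ≠ 0 := fun e => hω.2.1 (by rw [hd, e, zero_smul])
      refine ⟨c / d, div_ne_zero hc0 hd0, ?_⟩
      rw [show x = d • (⟨v₀, (S.mem h₀.1).1⟩ : X) from Subtype.ext hd, map_smul, hθ0, smul_smul,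
        div_mul_cancel₀ _ hd0, hωφ]
    · push Not at hall
      obtain ⟨e, he, heω⟩ := hall
      have hsub : ∀ z : X, P (z : V) ω = 0 → P (z : V) (θ x) = 0 := fun z hz => by
        by_cases hzD : P (z : V) φ₀ ≠ 0
        · exact (same z hzD).1 hz
        push Not at hzD
        have := (same (z + e) (by simpa [hzD] using he)).1 (by simp [hz, heω])
        simpa [(same e he).1 heω] using this
      obtain ⟨u, η, hu, huη⟩ := S.exists_partner hω
      have huω : P u ω ≠ 0 := fun h => huη (S.adj_zero hT hω hu h)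
      set uu : X := ⟨u, (S.mem hu.1).1⟩
      have hprop : θ x = (P u (θ x) / P u ω) • ω := sep (hθY x) (Y.smul_mem _ (S.mem hω.1).2) fun y _ => by
        have := hsub (y - (P (y : V) ω / P u ω) • uu) (by simp [uu, div_mul_cancel₀ _ huω])
        simp only [Submodule.coe_sub, Submodule.coe_smul, map_sub, map_smul, LinearMap.sub_apply, LinearMap.smul_apply,
          smul_eq_mul, uu] at this
        simp only [map_smul, smul_eq_mul]
        field_simp at this ⊢
        linear_combination this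
      have hd0 : P u (θ x) / P u ω ≠ 0 := by
        intro h0
        obtain ⟨y, hy, hyω⟩ : ∃ y : X, P (y : V) φ₀ ≠ 0 ∧ P (y : V) ω ≠ 0 := by
          by_contra hno
          push Not at hno
          exact hω.2.2 (sep (S.mem hω.1).2 (zero_mem _) fun y hy => by simp [hno y hy])
        refine hyω ((same y hy).2 ?_)
        rw [hprop, h0]; simp
      generalize P u (θ x) / P u ω = d at hprop hd0
      exact ⟨d⁻¹, inv_ne_zero hd0, by rw [hprop, smul_smul, inv_mul_cancel₀ hd0, one_smul]⟩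
  have alt : ∀ x : X, x ≠ 0 → θ x ≠ 0 ∧ P (x : V) (θ x) = 0 ∧ ((x : V), θ x) ∈ T := fun x hx0 => by
    obtain ⟨ω, hω⟩ := S.all_points hT x.2 (hnr x x.2 fun e => hx0 (Subtype.ext e))
    obtain ⟨c, hc, e⟩ := main x hω
    have e' : θ x = c⁻¹ • ω := by rw [e, smul_smul, inv_mul_cancel₀ hc, one_smul]
    have hmem : ((x : V), θ x) ∈ T := e' ▸ S.smulR _ hω.1
    exact ⟨by rw [e']; exact smul_ne_zero (inv_ne_zero hc) hω.2.2, S.pair hmem, hmem⟩
  refine ⟨θ, fun x => ?_, fun {v φ} h hv => ?_⟩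
  · rcases eq_or_ne x 0 with rfl | hx0
    · exact ⟨hθY _, by simp, by rw [map_zero]; exact S.zeroR (zero_mem _), fun h => absurd rfl h⟩
    · exact ⟨hθY _, (alt x hx0).2.1, (alt x hx0).2.2, fun _ => (alt x hx0).1⟩
  · obtain ⟨c, -, e⟩ := main ⟨v, hv⟩ h
    exact ⟨c, e⟩

end Cfsg.Agent.Transvections.Sys
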